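import Cfsg.Agent.MinIndexForm.SU.Split

/-!
The action of the image on the vector and central parts, the commutator pairing, and the resulting bounds.
-/

set_option autoImplicit false

namespace Cfsg.Agent.MinIndexForm.SU

open Cfsg.Agent.Classical Module

universe uF uV
variable {F : Type uF} {V : Type uV} [Field F] [AddCommGroup V] [Module F V] {θ : F →+* F}
  {B : V →ₛₗ[θ] V →ₗ[F] F}

/-- Annihilators for a pairing with values in a prime field. -/
theorem card_annih {W : Type*} [AddCommGroup W] [Finite W] (p : ℕ) [Fact p.Prime] [Module (ZMod p) W]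
    (β : W → W → ZMod p) (hl : ∀ x x' y, β (x + x') y = β x y + β x' y)
    (hr : ∀ x y y', β x (y + y') = β x y + β x y') (hsl : ∀ x, (∀ y, β x y = 0) → x = 0)
    (hsr : ∀ y, (∀ x, β x y = 0) → y = 0) (S U : AddSubgroup W) (hU : ∀ u, u ∈ U ↔ ∀ s ∈ S, β s u = 0) :
    Nat.card U * Nat.card S = Nat.card W := by
  have : FiniteDimensional (ZMod p) W := Module.Finite.of_finite
  let c : LinearMap.BilinForm (ZMod p) W := LinearMap.mk₂ (ZMod p) β hl
    (fun r x y => ZMod.map_smul (AddMonoidHom.mk' (fun x => β x y) fun a b => hl a b y) r x) hr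
    (fun r x y => ZMod.map_smul (AddMonoidHom.mk' (fun y => β x y) fun a b => hr x a b) r y)
  have hc : c.Nondegenerate := ⟨hsl, hsr⟩
  set S' := AddSubgroup.toZModSubmodule p S
  have hUe : Nat.card U = Nat.card (c.orthogonal S') := by
    refine Nat.card_congr (Equiv.subtypeEquivRight fun u => ?_)
    rw [LinearMap.BilinForm.mem_orthogonal_iff, hU]
    exact Iff.rfl
  have hd := LinearMap.BilinForm.finrank_orthogonal hc S'
  have hle : finrank (ZMod p) S' ≤ finrank (ZMod p) W := Submodule.finrank_le S'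
  have hSe : Nat.card S = Nat.card S' := Nat.card_congr (Equiv.subtypeEquivRight fun u => Iff.rfl)
  rw [hUe, hSe, Module.natCard_eq_pow_finrank (K := ZMod p), Module.natCard_eq_pow_finrank (K := ZMod p) (V := S'),
    Module.natCard_eq_pow_finrank (K := ZMod p) (V := W), ← pow_add, hd, Nat.sub_add_cancel hle]

section Field

variable [Finite F] (hθ : Herm.IsInvol θ)
include hθ

theorem card_skew : Nat.card (skew θ) = Nat.card (Herm.fixField θ) := by
  obtain ⟨k, hk0, hk⟩ := Herm.exists_skew hθ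
  refine (Nat.card_congr (Equiv.ofBijective (fun r : Herm.fixField θ => (⟨(r : F) * k, mem_skew.2 (by
    rw [map_mul, Herm.mem_fixField.1 r.2, hk, mul_neg, add_neg_cancel])⟩ : skew θ)) ⟨fun r r' e => ?_, ?_⟩)).symm
  · exact Subtype.ext (mul_right_cancel₀ hk0 (congrArg Subtype.val e))
  · rintro ⟨c, hc⟩
    refine ⟨⟨c / k, ?_⟩, Subtype.ext (div_mul_cancel₀ _ hk0)⟩
    rw [Herm.mem_fixField, map_div₀, hk, show θ c = -c from eq_neg_of_add_eq_zero_right hc, neg_div_neg_eq]

theorem two_le_fix : 2 ≤ Nat.card (Herm.fixField θ) := Finite.one_lt_card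

theorem card_units_sq : Nat.card Fˣ + 1 = Nat.card (Herm.fixField θ) ^ 2 := by
  rw [Nat.card_units, ← Herm.card_eq_fix_sq hθ]
  exact Nat.sub_add_cancel Nat.card_pos

/-- The torus part times the central part. -/
theorem index_mul_ge {Z : AddSubgroup (skew θ)} (hZ : Z ≠ ⊤) {T : Subgroup Fˣ}
    (hT : ∀ a ∈ T, ∀ c ∈ Z, ∀ h, (⟨(a : F) * θ a * (c : F), h⟩ : skew θ) ∈ Z) :
    Nat.card (Herm.fixField θ) + T.index ≤ T.index * Z.index + 1 := by
  classical
  obtain ⟨c0, -, hc0⟩ := SetLike.exists_of_lt (lt_top_iff_ne_top.2 hZ)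
  set N := T.map (Herm.normHom θ)
  let val : Option N → F := fun o => o.elim 0 fun r => ((r : Fˣ) : F)
  have hvfix : ∀ o, θ (val o) = val o := by
    rintro (_ | ⟨r, a, -, rfl⟩)
    · exact map_zero θ
    · show θ (Herm.normHom θ a : F) = (Herm.normHom θ a : F)
      rw [Herm.normHom_coe, map_mul, hθ.invol, mul_comm]
  have hvinj : Function.Injective val := by
    rintro (_ | r) (_ | r') e
    · rfl
    · exact absurd e.symm (r' : Fˣ).ne_zero
    · exact absurd e (r : Fˣ).ne_zero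
    · exact congrArg some (Subtype.ext (Units.ext e))
  have hskew : ∀ o, ∀ c : skew θ, val o * (c : F) ∈ skew θ := fun o c => by
    rw [mem_skew, map_mul, hvfix]
    linear_combination val o * mem_skew.1 c.2
  have hpres : ∀ o, ∀ c ∈ Z, (⟨val o * (c : F), hskew o c⟩ : skew θ) ∈ Z := by
    rintro (_ | ⟨r, a, ha, rfl⟩) c hc
    · convert Z.zero_mem
      exact zero_mul _
    · refine (congrArg (· ∈ Z) (Subtype.ext ?_)).mp
        (hT a ha c hc (by
          rw [← Herm.normHom_coe]; exact hskew (some ⟨_, a, ha, rfl⟩) c))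
      show (a : F) * θ a * (c : F) = _
      rw [← Herm.normHom_coe]
      rfl
  have hcount : Nat.card (Option N) ≤ Z.index := by
    rw [AddSubgroup.index]
    refine Nat.card_le_card_of_injective
      (fun o => ((⟨val o * (c0 : F), hskew o c0⟩ : skew θ) : skew θ ⧸ Z)) fun o o' e => ?_
    by_contra hne
    refine hc0 ?_
    have hd : val o - val o' ≠ 0 := sub_ne_zero.2 fun e' => hne (hvinj e')
    have hmem : ∀ c : skew θ, c ∈ Z →
        (⟨val o * (c : F), hskew o c⟩ : skew θ) - ⟨val o' * (c : F), hskew o' c⟩ ∈ Z :=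
      fun c hc => Z.sub_mem (hpres o c hc) (hpres o' c hc)
    have hinj : Function.Injective fun c : Z =>
        (⟨_, hmem c.1 c.2⟩ : Z) := fun c c' e' => Subtype.ext (Subtype.ext (by
      have e'' : val o * (c.1 : F) - val o' * (c.1 : F) = val o * (c'.1 : F) - val o' * (c'.1 : F) :=
        congrArg (fun z : Z => ((z : skew θ) : F)) e'
      exact mul_left_cancel₀ hd (by linear_combination e'')))
    have hmem0 : (⟨val o * (c0 : F), hskew o c0⟩ : skew θ) - ⟨val o' * (c0 : F), hskew o' c0⟩ ∈ Z := by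
      have := QuotientAddGroup.eq.1 e
      have := Z.neg_mem this
      simpa [neg_add_eq_sub] using this
    obtain ⟨c, hc⟩ := (Finite.injective_iff_surjective.1 hinj) ⟨_, hmem0⟩
    have e'' : val o * (c.1 : F) - val o' * (c.1 : F) = val o * (c0 : F) - val o' * (c0 : F) :=
      congrArg (fun z : Z => ((z : skew θ) : F)) hc
    have : (c.1 : F) = (c0 : F) := mul_left_cancel₀ hd (by linear_combination e'')
    exact (Subtype.ext this : c.1 = c0) ▸ c.2
  rw [Finite.card_option] at hcount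
  have hTN : Nat.card T ≤ (Nat.card (Herm.fixField θ) + 1) * Nat.card N := by
    set f := (Herm.normHom θ).comp T.subtype with hf
    rw [Subgroup.card_eq_card_quotient_mul_card_subgroup f.ker,
      Nat.card_congr (QuotientGroup.quotientKerEquivRange f).toEquiv, hf, MonoidHom.range_comp,
      Subgroup.range_subtype, mul_comm]
    refine Nat.mul_le_mul_right _ ?_
    rw [← Herm.card_ker_normHom hθ]
    exact Nat.card_le_card_of_injective (fun x => (⟨(x.1 : Fˣ), x.2⟩ : (Herm.normHom θ).ker))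
      fun x x' e => Subtype.ext (Subtype.ext (congrArg (fun z : (Herm.normHom θ).ker => (z : Fˣ)) e))
  have h1 := T.card_mul_index
  have h2 := card_units_sq hθ
  have h3 := two_le_fix hθ
  set q := Nat.card (Herm.fixField θ)
  obtain ⟨q', hq'⟩ : ∃ q', q = q' + 1 := ⟨q - 1, by omega⟩
  obtain ⟨z', hz'⟩ : ∃ z', Z.index = z' + 1 := ⟨Z.index - 1, by omega⟩
  have h4 : Nat.card T * T.index ≤ (q + 1) * z' * T.index := by
    refine Nat.mul_le_mul_right _ (hTN.trans (Nat.mul_le_mul_left _ (by omega)))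
  have h5 : q' * (q + 1) ≤ z' * T.index * (q + 1) := by
    rw [h1] at h4
    have : Nat.card Fˣ = q' * (q + 1) := by
      have : q' * (q + 1) + 1 = q ^ 2 := by rw [hq']; ring
      omega
    rw [← this]
    calc Nat.card Fˣ ≤ (q + 1) * z' * T.index := h4
      _ = _ := by ring
  have h6 : q' ≤ z' * T.index := Nat.le_of_mul_le_mul_right h5 (by omega)
  rw [hz', hq']
  linarith [mul_comm T.index z', (show T.index * (z' + 1) = T.index * z' + T.index by ring)]

end Field

namespace Fr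

variable [Finite F] [FiniteDimensional F V] (τ : Fr B) (K : Subgroup (Herm.suG B))

theorem conj_sh {g : Herm.suG B} {a : Fˣ} (hg : g.1 τ.y = (a : F) • τ.y) (u : τ.W) (c : F)
    (hc : c + θ c = -B (u : V) (u : V)) :
    ∃ c' hc', g * τ.sh u c hc * g⁻¹ = τ.sh (θ a • τ.pr (g.1 (u : V))) c' hc' ∧
      (u = 0 → c' = (a : F) * θ a * c) := by
  set r := B τ.f (g.1 (u : V)) with hr
  have hθa : θ (a : F) ≠ 0 := (map_ne_zero θ).2 a.ne_zero
  have hyu : B τ.y (g.1 (u : V)) = 0 := by
    have h := g.2.1 τ.y (u : V)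
    rw [hg, τ.By, map_smulₛₗ, LinearMap.smul_apply, smul_eq_mul] at h
    exact (mul_eq_zero.1 h).resolve_left hθa
  set u' := τ.pr (g.1 (u : V)) with hu'
  have hgu : g.1 (u : V) = (u' : V) + r • τ.y := by
    conv_lhs => rw [τ.decomp (g.1 (u : V)), hyu]
    simp [hu', hr]
  have hnorm : B (u' : V) (u' : V) = B (u : V) (u : V) := by
    rw [← g.2.1 (u : V) (u : V), hgu]
    simp [τ.hyy, τ.By, τ.Bwy]
  refine ⟨(a : F) * θ a * c + θ a * r - a * θ r, ?_, Subtype.ext (LinearEquiv.ext fun x => ?_), fun h0 => ?_⟩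
  · simp [hnorm, τ.hB.invol]
    linear_combination (a : F) * θ a * hc
  · set x' := (g⁻¹).1 x with hx'
    have hgx : g.1 x' = x := by
      rw [hx', ← LinearEquiv.mul_apply, ← Subgroup.coe_mul, mul_inv_cancel]; rfl
    rw [Subgroup.coe_mul, Subgroup.coe_mul, LinearEquiv.mul_apply, LinearEquiv.mul_apply, ← hx', τ.sh_coe,
      τ.sh_coe, map_add, map_add, map_smul, map_smul, hgx, hg, ← g.2.1 τ.y x', ← g.2.1 (u : V) x', hgx, hg, hgu,
      Submodule.coe_smul]
    simp [τ.hB.invol]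
    module
  · subst h0
    have : r = 0 := by rw [hr]; simp
    rw [this]; simp

theorem Sb_inv {g : τ.P1} (hg : g.1 ∈ K) {u : τ.W} (hu : u ∈ τ.Sb K) : (τ.lam g).1 u ∈ τ.Sb K := by
  obtain ⟨c, hc, hu⟩ := hu
  obtain ⟨c', hc', e, -⟩ := τ.conj_sh (g := g.1) (a := 1) (by simpa using τ.mem_P1.1 g.2) u c hc
  refine ⟨c', ?_, ?_⟩
  · simpa [τ.lam_apply] using hc'
  · have h := K.mul_mem (K.mul_mem hg hu) (K.inv_mem hg)
    rw [e] at h
    convert h using 1
    exact τ.sh_congr (by simp [τ.lam_apply]) rfl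

theorem Sb_inv_I1 {l : Herm.suG τ.BW} (hl : l ∈ τ.I1 K) {u : τ.W} (hu : u ∈ τ.Sb K) : l.1 u ∈ τ.Sb K := by
  obtain ⟨g, hg, rfl⟩ := (τ.mem_I1 K).1 hl
  exact τ.Sb_inv K hg hu

theorem Zp_inv {a : Fˣ} (ha : a ∈ τ.T2 K) {c : skew θ} (hc : c ∈ τ.Zp K)
    (h : (a : F) * θ a * (c : F) ∈ skew θ) : (⟨_, h⟩ : skew θ) ∈ τ.Zp K := by
  obtain ⟨g, hg, hga⟩ := (τ.mem_T2 K).1 ha
  obtain ⟨c', hc', e, h0⟩ := τ.conj_sh hga 0 (c : F) (τ.skew_cond c.2)
  have hm := K.mul_mem (K.mul_mem hg hc) (K.inv_mem hg)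
  rw [tvc, e] at hm
  rw [mem_Zp, tvc]
  convert hm using 1
  exact τ.sh_congr (by simp) (h0 rfl).symm

theorem comm_Sb {u v : τ.W} (hu : u ∈ τ.Sb K) (hv : v ∈ τ.Sb K)
    (h : B (v : V) (u : V) - B (u : V) (v : V) ∈ skew θ) : (⟨_, h⟩ : skew θ) ∈ τ.Zp K := by
  obtain ⟨c, hc, hu⟩ := hu
  obtain ⟨d, hd, hv⟩ := hv
  have hm := K.mul_mem (K.mul_mem hu hv) (K.inv_mem (K.mul_mem hv hu))
  rw [mem_Zp]
  convert hm using 1
  rw [eq_mul_inv_iff_mul_eq, τ.sh_mul, τ.sh_mul, tvc, τ.sh_mul]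
  refine τ.sh_congr (by rw [zero_add, add_comm]) ?_
  simp
  ring

theorem comm_skew (u v : τ.W) : B (v : V) (u : V) - B (u : V) (v : V) ∈ skew θ := by
  rw [mem_skew, map_sub, τ.hB.symm, τ.hB.symm]; ring

theorem card_W {m : ℕ} (hd : finrank F τ.W = m) : Nat.card τ.W = Nat.card (Herm.fixField θ) ^ (2 * m) := by
  rw [Module.natCard_eq_pow_finrank (K := F), hd, Herm.card_eq_fix_sq τ.hB.toIsInvol, ← pow_mul]

theorem exists_antitrace_value {k : F} (hk : k ∈ skew θ) {u : τ.W} (hu : u ≠ 0) :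
    ∃ v : τ.W, B (v : V) (u : V) - B (u : V) (v : V) = k := by
  obtain ⟨μ, hμ⟩ := Herm.exists_antitrace τ.hB.toIsInvol (k := k) (eq_neg_of_add_eq_zero_right hk)
  obtain ⟨v0, hv0⟩ : ∃ v0, τ.BW u v0 ≠ 0 := by
    by_contra hc; push Not at hc; exact hu (τ.hB_W.nondeg u hc)
  refine ⟨(μ / τ.BW u v0) • v0, ?_⟩
  have e : B (u : V) (((μ / τ.BW u v0) • v0 : τ.W) : V) = μ := by
    rw [← τ.BW_apply, map_smul, smul_eq_mul, div_mul_cancel₀ _ hv0]
  rw [← τ.hB.symm (u : V), e, hμ]

/-- The vector part at a moved point is small. -/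
theorem Sb_index_ge {m : ℕ} (hd : finrank F τ.W = m) (hZ : τ.Zp K ≠ ⊤) :
    Nat.card (Herm.fixField θ) ^ m ≤ (τ.Sb K).index := by
  obtain ⟨p, hp⟩ := CharP.exists F
  have : Fact p.Prime := ⟨CharP.char_is_prime F p⟩
  letI : Algebra (ZMod p) F := ZMod.algebra F p
  letI : Module (ZMod p) τ.W := Module.compHom τ.W (algebraMap (ZMod p) F)
  have : Finite τ.W := Module.finite_of_finite F
  obtain ⟨c0, -, hc0⟩ := SetLike.exists_of_lt (lt_top_iff_ne_top.2 hZ)
  set Z' : Submodule (ZMod p) F := AddSubgroup.toZModSubmodule p ((τ.Zp K).map (skew θ).subtype)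
  have hc0' : (c0 : F) ∉ Z' := by
    rintro ⟨c, hc, e⟩
    exact hc0 ((Subtype.ext e : c = c0) ▸ hc)
  obtain ⟨φ, hφ0, hφ⟩ := Submodule.exists_dual_map_eq_bot_of_notMem hc0' inferInstance
  have hker : ∀ c ∈ τ.Zp K, φ (c : F) = 0 := fun c hc => by
    have : φ (c : F) ∈ Z'.map φ := ⟨_, ⟨c, hc, rfl⟩, rfl⟩
    rwa [hφ] at this
  let β : τ.W → τ.W → ZMod p := fun u v => φ (B (v : V) (u : V) - B (u : V) (v : V))
  have hsl : ∀ x, (∀ y, β x y = 0) → x = 0 := fun x hx => by
    by_contra hx0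
    obtain ⟨v, hv⟩ := τ.exists_antitrace_value c0.2 hx0
    exact hφ0 (hv ▸ hx v)
  let U : AddSubgroup τ.W :=
    { carrier := {u | ∀ s ∈ τ.Sb K, β s u = 0}
      zero_mem' := fun s _ => by simp [β]
      add_mem' := fun {a b} ha hb s hs => by
        have h1 := ha s hs
        have h2 := hb s hs
        simp only [β] at h1 h2 ⊢
        rw [Submodule.coe_add, map_add, map_add, LinearMap.add_apply, add_sub_add_comm, map_add, h1, h2, add_zero]
      neg_mem' := fun {a} ha s hs => by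
        have h1 := ha s hs
        simp only [β] at h1 ⊢
        rw [Submodule.coe_neg, map_neg, map_neg, LinearMap.neg_apply, ← neg_sub', map_neg, h1, neg_zero] }
  have hadd : ∀ a b a' b' : F, φ (a + b - (a' + b')) = φ (a - a') + φ (b - b') := fun a b a' b' => by
    rw [add_sub_add_comm, map_add]
  have hl : ∀ x x' y, β (x + x') y = β x y + β x' y := fun x x' y => by
    show φ (B (y : V) ((x + x' : τ.W) : V) - B ((x + x' : τ.W) : V) (y : V)) = _
    rw [Submodule.coe_add, map_add, map_add, LinearMap.add_apply, hadd]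
  have hr : ∀ x y y', β x (y + y') = β x y + β x y' := fun x y y' => by
    show φ (B ((y + y' : τ.W) : V) (x : V) - B (x : V) ((y + y' : τ.W) : V)) = _
    rw [Submodule.coe_add, map_add, map_add, LinearMap.add_apply, hadd]
  have hU := card_annih p β hl hr
    hsl (fun y hy => hsl y fun x => by
      have := hy x
      simp only [β] at this ⊢
      rw [← neg_sub, map_neg, this, neg_zero]) (τ.Sb K) U fun u => Iff.rfl
  have hle : τ.Sb K ≤ U := fun u hu s hs => hker _ (τ.comm_Sb K hs hu (τ.comm_skew s u))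
  have h1 : Nat.card (τ.Sb K) ≤ Nat.card U := Nat.card_le_card_of_injective _ (AddSubgroup.inclusion_injective hle)
  have h2 := (τ.Sb K).card_mul_index
  have hpos : 0 < Nat.card (τ.Sb K) := Nat.card_pos
  have h3 : Nat.card U = (τ.Sb K).index := Nat.eq_of_mul_eq_mul_right hpos (by rw [hU, ← h2, mul_comm])
  rw [τ.card_W hd] at h2
  refine (Nat.pow_le_pow_iff_left (n := 2) two_ne_zero).1 ?_
  rw [← pow_mul, mul_comm m, ← h2, pow_two]
  exact Nat.mul_le_mul_right _ (h3 ▸ h1)

/-- An annihilator of the vector part. -/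
theorem exists_annih : ∃ U : AddSubgroup τ.W, Nat.card U = (τ.Sb K).index ∧
    ∀ l ∈ τ.I1 K, ∀ u ∈ U, l.1 u ∈ U := by
  obtain ⟨p, hp⟩ := CharP.exists F
  have : Fact p.Prime := ⟨CharP.char_is_prime F p⟩
  letI : Algebra (ZMod p) F := ZMod.algebra F p
  letI : Module (ZMod p) τ.W := Module.compHom τ.W (algebraMap (ZMod p) F)
  have : Finite τ.W := Module.finite_of_finite F
  have h10 : (1 : F) ∉ (⊥ : Submodule (ZMod p) F) := by simp
  obtain ⟨φ, hφ, -⟩ := Submodule.exists_dual_map_eq_bot_of_notMem h10 inferInstance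
  let β : τ.W → τ.W → ZMod p := fun u v => φ (B (u : V) (v : V))
  let U : AddSubgroup τ.W :=
    { carrier := {u | ∀ s ∈ τ.Sb K, β s u = 0}
      zero_mem' := fun s _ => by simp [β]
      add_mem' := fun {a b} ha hb s hs => by
        have h1 := ha s hs
        have h2 := hb s hs
        simp only [β] at h1 h2 ⊢
        rw [Submodule.coe_add, map_add, map_add, h1, h2, add_zero]
      neg_mem' := fun {a} ha s hs => by
        have h1 := ha s hs
        simp only [β] at h1 ⊢
        rw [Submodule.coe_neg, map_neg, map_neg, h1, neg_zero] }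
  have hsl : ∀ x, (∀ y, β x y = 0) → x = 0 := fun x hx => τ.hB_W.nondeg x fun y => by
    by_contra hxy
    refine hφ ?_
    have := hx ((τ.BW x y)⁻¹ • y)
    simp only [β, Submodule.coe_smul, map_smul, smul_eq_mul, ← τ.BW_apply] at this
    rwa [inv_mul_cancel₀ hxy] at this
  have hsr : ∀ y, (∀ x, β x y = 0) → y = 0 := fun y hy => τ.hB_W.nondeg y fun x => by
    by_contra hyx
    refine hφ ?_
    have hxy : τ.BW x y ≠ 0 := fun e => hyx ((Herm.eq_zero_comm τ.hB_W).1 e)
    have := hy ((θ (τ.BW x y))⁻¹ • x)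
    simp only [β, Submodule.coe_smul, map_smulₛₗ, LinearMap.smul_apply, smul_eq_mul, map_inv₀, τ.hB.invol,
      ← τ.BW_apply] at this
    rwa [inv_mul_cancel₀ hxy] at this
  have hU := card_annih p β (fun x x' y => by simp [β]) (fun x y y' => by simp [β]) hsl hsr (τ.Sb K) U
    fun u => Iff.rfl
  refine ⟨U, Nat.eq_of_mul_eq_mul_right (Nat.card_pos (α := τ.Sb K)) (by
    rw [hU, ← (τ.Sb K).card_mul_index, mul_comm]), fun l hl u hu s hs => ?_⟩
  have h1 := hu _ (τ.Sb_inv_I1 K (inv_mem hl) hs)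
  show φ _ = 0
  simp only [β] at h1
  rw [← τ.BW_apply, ← l.2.1, τ.BW_apply] at h1
  have e : l.1 ((l⁻¹).1 s) = s := by
    rw [← LinearEquiv.mul_apply, ← Subgroup.coe_mul, mul_inv_cancel]; rfl
  rwa [e] at h1

end Fr

end Cfsg.Agent.MinIndexForm.SU
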