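import Cfsg.Agent.MinIndexForm.SU.Frame
import Mathlib.LinearAlgebra.Transvection.Basic

/-!
The three quotient maps of a point stabiliser in a special unitary group and the index formula.
-/

set_option autoImplicit false

namespace Cfsg.Agent.MinIndexForm.SU

open Cfsg.Agent.Classical Module

/-- The index splits along a surjection. -/
theorem index_split {G A C : Type*} [Group G] [Group A] [Group C] [Finite G] (f : G →* A)
    (hf : Function.Surjective f) (ι : C →* G) (hι : ι.range = f.ker) (H : Subgroup G) :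
    H.index = (H.map f).index * (H.comap ι).index := by
  rw [Subgroup.index_comap, hι, Subgroup.index_map, MonoidHom.range_eq_top.2 hf, Subgroup.index_top, mul_one]
  have h1 : H.relIndex f.ker * f.ker.index = f.ker.relIndex H * H.index := by
    rw [← Subgroup.inf_relIndex_right, Subgroup.relIndex_mul_index inf_le_right,
      ← Subgroup.inf_relIndex_left, Subgroup.relIndex_mul_index inf_le_left]
  have h2 : f.ker.index = f.ker.relIndex H * (H ⊔ f.ker).index := by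
    rw [← Subgroup.relIndex_sup_right (H := H) (K := f.ker), Subgroup.relIndex_mul_index le_sup_right]
  rw [h2] at h1
  have h3 : f.ker.relIndex H ≠ 0 := Subgroup.index_ne_zero_of_finite
  refine Nat.eq_of_mul_eq_mul_left (Nat.pos_of_ne_zero h3) ?_
  rw [← h1]; ring

universe uF uV
variable {F : Type uF} {V : Type uV} [Field F] [AddCommGroup V] [Module F V] {θ : F →+* F}
  {B : V →ₛₗ[θ] V →ₗ[F] F}

/-- The skew elements. -/
def skew (θ : F →+* F) : AddSubgroup F where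
  carrier := {c | c + θ c = 0}
  zero_mem' := by simp
  add_mem' {a b} (ha : a + θ a = 0) (hb : b + θ b = 0) := by
    show a + b + θ (a + b) = 0
    rw [map_add]; linear_combination ha + hb
  neg_mem' {a} (ha : a + θ a = 0) := by
    show -a + θ (-a) = 0
    rw [map_neg]; linear_combination -ha

theorem mem_skew {c : F} : c ∈ skew θ ↔ c + θ c = 0 := Iff.rfl

section Dilation

variable (h : Herm.IsHerm B) {e : V} (he : B e e = 1)

/-- The dilation by a scalar along a unit vector. -/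
def dil (μ : F) (hμ : μ * θ μ = 1) : V ≃ₗ[F] V where
  toFun x := x + ((μ - 1) * B e x) • e
  map_add' x z := by simp [mul_add, add_smul]; abel
  map_smul' c x := by simp [smul_smul, mul_left_comm]
  invFun x := x + ((θ μ - 1) * B e x) • e
  left_inv x := by
    simp [he]
    match_scalars <;> simp <;> linear_combination B e x * hμ
  right_inv x := by
    simp [he]
    match_scalars <;> simp <;> linear_combination B e x * hμ

theorem dil_apply (μ : F) (hμ : μ * θ μ = 1) (x : V) : dil he μ hμ x = x + ((μ - 1) * B e x) • e := rfl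

include h in
theorem dil_isometry (μ : F) (hμ : μ * θ μ = 1) (x z : V) : B (dil he μ hμ x) (dil he μ hμ z) = B x z := by
  simp [dil_apply, he, h.symm]
  linear_combination B x e * B e z * hμ

theorem det_dil [FiniteDimensional F V] (μ : F) (hμ : μ * θ μ = 1) :
    (LinearEquiv.det (dil he μ hμ) : F) = μ := by
  have e1 : (dil he μ hμ : V →ₗ[F] V) = LinearMap.transvection ((μ - 1) • B e) e :=
    LinearMap.ext fun x => by simp [dil_apply, LinearMap.transvection]
  rw [LinearEquiv.coe_det, e1, LinearMap.transvection.det]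
  simp [he]

include h in
theorem exists_unit [Finite F] [FiniteDimensional F V] (hn : 0 < finrank F V) : ∃ e : V, B e e = 1 := by
  obtain ⟨b, hb⟩ := Herm.exists_orthonormal h
  exact ⟨b ⟨0, hn⟩, by simpa using hb ⟨0, hn⟩ ⟨0, hn⟩⟩

end Dilation

namespace Fr

variable [Finite F] [FiniteDimensional F V] (τ : Fr B)

/-- The stabiliser of the vector. -/
def P1 : Subgroup (Herm.suG B) where
  carrier := {g | g.1 τ.y = τ.y}
  one_mem' := rfl
  mul_mem' {g h} (hg : g.1 τ.y = τ.y) (hh : h.1 τ.y = τ.y) := by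
    show (g * h).1 τ.y = τ.y
    rw [Subgroup.coe_mul, LinearEquiv.mul_apply, hh, hg]
  inv_mem' {g} (hg : g.1 τ.y = τ.y) := by
    show (g⁻¹).1 τ.y = τ.y
    conv_lhs => rw [← hg]
    exact Herm.inv_apply_self' g.1 τ.y

theorem mem_P1 {g : Herm.suG B} : g ∈ τ.P1 ↔ g.1 τ.y = τ.y := Iff.rfl

/-- The stabiliser of the point. -/
def P : Subgroup (Herm.suG B) where
  carrier := {g | ∃ a : Fˣ, g.1 τ.y = (a : F) • τ.y}
  one_mem' := ⟨1, by simp⟩
  mul_mem' := by
    rintro g h ⟨a, ha⟩ ⟨b, hb⟩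
    exact ⟨b * a, by rw [Subgroup.coe_mul, LinearEquiv.mul_apply, hb, map_smul, ha, smul_smul, Units.val_mul]⟩
  inv_mem' := by
    rintro g ⟨a, ha⟩
    refine ⟨a⁻¹, ?_⟩
    have := congrArg (fun x => ((a⁻¹ : Fˣ) : F) • (g⁻¹).1 x) ha
    simp only [map_smul, smul_smul, Units.inv_mul, one_smul, Subgroup.coe_inv, Herm.inv_apply_self'] at this
    exact this.symm

theorem mem_P {g : Herm.suG B} : g ∈ τ.P ↔ ∃ a : Fˣ, g.1 τ.y = (a : F) • τ.y := Iff.rfl

theorem P1_le_P : τ.P1 ≤ τ.P := fun g hg => ⟨1, by rw [mem_P1] at hg; simpa using hg⟩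

noncomputable def aval (g : τ.P) : Fˣ := g.2.choose

theorem aval_spec (g : τ.P) : g.1.1 τ.y = (τ.aval g : F) • τ.y := g.2.choose_spec

theorem aval_eq {g : τ.P} {a : Fˣ} (h : g.1.1 τ.y = (a : F) • τ.y) : τ.aval g = a :=
  Units.ext (smul_left_injective F τ.y_ne ((τ.aval_spec g).symm.trans h))

/-- The scalar on the point. -/
noncomputable def aHom : τ.P →* Fˣ :=
  MonoidHom.mk' τ.aval fun g h => τ.aval_eq (by
    rw [Subgroup.coe_mul, Subgroup.coe_mul, LinearEquiv.mul_apply, τ.aval_spec, map_smul, τ.aval_spec, smul_smul,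
      Units.val_mul, mul_comm])

theorem aHom_apply (g : τ.P) : τ.aHom g = τ.aval g := rfl

theorem pr_map {g : Herm.suG B} (hg : g.1 τ.y = τ.y) {x : V} (hx : B τ.y x = 0) :
    τ.pr (g.1 (τ.pr x : V)) = τ.pr (g.1 x) := by
  rw [pr_coe, hx, zero_smul, sub_zero, map_sub, map_smul, hg, map_sub, map_smul, pr_y, smul_zero, sub_zero]

theorem perp_map {g : Herm.suG B} (hg : g.1 τ.y = τ.y) (w : τ.W) : B τ.y (g.1 (w : V)) = 0 := by
  conv_lhs => rw [← hg]
  rw [g.2.1, τ.By]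

/-- The induced map on the complement. -/
def lamE (g : τ.P1) : τ.W ≃ₗ[F] τ.W where
  toFun w := τ.pr (g.1.1 (w : V))
  map_add' u v := by simp
  map_smul' c u := by simp
  invFun w := τ.pr ((g.1⁻¹).1 (w : V))
  left_inv w := by
    show τ.pr ((g.1⁻¹).1 (τ.pr (g.1.1 (w : V)) : V)) = w
    rw [τ.pr_map (τ.P1.inv_mem g.2) (τ.perp_map g.2 w), Subgroup.coe_inv, Herm.inv_apply_self', τ.pr_W]
  right_inv w := by
    show τ.pr (g.1.1 (τ.pr ((g.1⁻¹).1 (w : V)) : V)) = w
    rw [τ.pr_map g.2 (τ.perp_map (τ.P1.inv_mem g.2) w)]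
    have : g.1.1 ((g.1⁻¹).1 (w : V)) = w := by
      rw [← LinearEquiv.mul_apply, ← Subgroup.coe_mul, mul_inv_cancel]; rfl
    rw [this, τ.pr_W]

theorem lamE_apply (g : τ.P1) (w : τ.W) : τ.lamE g w = τ.pr (g.1.1 (w : V)) := rfl

theorem lamE_isometry (g : τ.P1) (u v : τ.W) : τ.BW (τ.lamE g u) (τ.lamE g v) = τ.BW u v := by
  have h := τ.B_decomp (g.1.1 (u : V)) (g.1.1 (v : V))
  rw [g.1.2.1, τ.perp_map g.2, τ.perp_map g.2, map_zero, mul_zero, zero_mul, add_zero, add_zero] at h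
  exact h.symm

/-- The induced special isometry of the complement. -/
def lam : τ.P1 →* Herm.suG τ.BW :=
  MonoidHom.mk' (fun g => ⟨τ.lamE g, τ.lamE_isometry g,
    (τ.det_eq_det g.1.2.1 g.2 (τ.lamE_isometry g) fun _ => rfl).symm.trans g.1.2.2⟩) fun g h =>
    Subtype.ext (LinearEquiv.ext fun w => by
      show τ.pr ((g.1 * h.1).1 (w : V)) = τ.pr (g.1.1 (τ.pr (h.1.1 (w : V)) : V))
      rw [τ.pr_map g.2 (τ.perp_map h.2 w)]; rfl)

theorem lam_apply (g : τ.P1) (w : τ.W) : (τ.lam g).1 w = τ.pr (g.1.1 (w : V)) := rfl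

/-- The extension of a special isometry of the complement. -/
def emb : Herm.suG τ.BW →* Herm.suG B :=
  MonoidHom.mk' (fun l => ⟨τ.ext 1 l.1, τ.ext_isometry 1 l.2.1, Units.ext (by
    rw [τ.det_ext, l.2.2]; simp)⟩) fun l l' => Subtype.ext (by
    show τ.ext 1 (l.1 * l'.1) = τ.ext 1 l.1 * τ.ext 1 l'.1
    rw [τ.ext_mul, one_mul])

theorem emb_y (l : Herm.suG τ.BW) : (τ.emb l).1 τ.y = τ.y := by
  show τ.ext 1 l.1 τ.y = τ.y
  simp [ext_y]

theorem emb_f (l : Herm.suG τ.BW) : (τ.emb l).1 τ.f = τ.f := by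
  show τ.ext 1 l.1 τ.f = τ.f
  simp [ext_f]

theorem emb_W (l : Herm.suG τ.BW) (w : τ.W) : (τ.emb l).1 (w : V) = (l.1 w : V) := τ.ext_W 1 l.1 w

theorem lam_emb (l : Herm.suG τ.BW) : τ.lam ⟨τ.emb l, τ.emb_y l⟩ = l :=
  Subtype.ext (LinearEquiv.ext fun w => by rw [lam_apply, emb_W, pr_W])

theorem lam_surjective : Function.Surjective τ.lam := fun l => ⟨_, τ.lam_emb l⟩

theorem aHom_surjective (hn : 3 ≤ finrank F V) : Function.Surjective τ.aHom := fun a => by
  obtain ⟨e, he⟩ := exists_unit τ.hB_W (by have := τ.finrank_W; omega)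
  have hθa : θ (a : F) ≠ 0 := (map_ne_zero θ).2 a.ne_zero
  have hμ : θ (a : F) / a * θ (θ (a : F) / a) = 1 := by
    rw [map_div₀, τ.hB.invol]; field_simp
  have hm : τ.ext a (dil he _ hμ) ∈ Herm.suG B :=
    ⟨τ.ext_isometry a (dil_isometry τ.hB_W he _ hμ), Units.ext (by
      rw [τ.det_ext, det_dil, Units.val_one]; field_simp)⟩
  exact ⟨⟨⟨_, hm⟩, a, τ.ext_y a _⟩, τ.aval_eq (τ.ext_y a _)⟩

theorem sh_mem_P1 (u : τ.W) (c : F) (hc : c + θ c = -B (u : V) (u : V)) : τ.sh u c hc ∈ τ.P1 := τ.sh_y u c hc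

theorem lam_sh (u : τ.W) (c : F) (hc : c + θ c = -B (u : V) (u : V)) :
    τ.lam ⟨τ.sh u c hc, τ.sh_mem_P1 u c hc⟩ = 1 :=
  Subtype.ext (LinearEquiv.ext fun w => by simp [lam_apply, sh_W, pr_W, pr_y])

theorem eq_sh {g : τ.P1} (hg : τ.lam g = 1) :
    ∃ hc, g.1 = τ.sh (τ.pr (g.1.1 τ.f)) (B τ.f (g.1.1 τ.f)) hc := by
  obtain ⟨hc, he⟩ := τ.eq_eichler g.1.2.1 g.2 (fun w => by
    show (τ.lam g).1 w = w
    rw [hg]; rfl)
  exact ⟨hc, Subtype.ext he⟩

theorem exists_vec (u : τ.W) : ∃ c, c + θ c = -B (u : V) (u : V) :=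
  Herm.exists_trace τ.hB.toIsInvol (by rw [map_neg, Herm.fix_self τ.hB])

/-- The vector part. -/
def vec : τ.lam.ker →* Multiplicative τ.W :=
  MonoidHom.mk' (fun g => Multiplicative.ofAdd (τ.pr (g.1.1.1 τ.f))) fun g h => by
    obtain ⟨hc, e⟩ := τ.eq_sh (g := g.1) g.2
    obtain ⟨hc', e'⟩ := τ.eq_sh (g := h.1) h.2
    show Multiplicative.ofAdd (τ.pr ((g.1.1 * h.1.1).1 τ.f)) = _
    rw [← ofAdd_add]
    refine congrArg Multiplicative.ofAdd ?_
    rw [e, e', τ.sh_mul, τ.sh_f, τ.sh_f, τ.sh_f]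
    simp [pr_W, pr_f, pr_y]

theorem vec_surjective : Function.Surjective τ.vec := fun u => by
  obtain ⟨c, hc⟩ := τ.exists_vec (Multiplicative.toAdd u)
  refine ⟨⟨⟨_, τ.sh_mem_P1 _ c hc⟩, τ.lam_sh _ c hc⟩, ?_⟩
  show Multiplicative.ofAdd _ = u
  simp [sh_f, pr_W, pr_f, pr_y]

/-- A transvection at the point. -/
def tvc (c : skew θ) : Herm.suG B := τ.sh 0 c (τ.skew_cond c.2)

theorem tvc_add (c d : skew θ) : τ.tvc (c + d) = τ.tvc c * τ.tvc d := by
  rw [tvc, tvc, tvc, τ.sh_mul]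
  exact τ.sh_congr (add_zero 0).symm (by simp)

theorem tvc_zero : τ.tvc 0 = 1 := τ.sh_zero _

theorem tvc_neg (c : skew θ) : τ.tvc (-c) = (τ.tvc c)⁻¹ :=
  eq_inv_of_mul_eq_one_left (by rw [← τ.tvc_add, neg_add_cancel, τ.tvc_zero])

/-- The central part. -/
def cen : Multiplicative (skew θ) →* τ.lam.ker :=
  MonoidHom.mk' (fun c => ⟨⟨τ.tvc (Multiplicative.toAdd c), τ.sh_y _ _ _⟩, τ.lam_sh _ _ _⟩) fun c d =>
    Subtype.ext (Subtype.ext (τ.tvc_add _ _))

theorem cen_range : τ.cen.range = τ.vec.ker := by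
  ext g
  constructor
  · rintro ⟨c, rfl⟩
    show Multiplicative.ofAdd _ = 1
    simp [cen, tvc, sh_f, pr_f, pr_y]
  · intro hg
    obtain ⟨hc, e⟩ := τ.eq_sh (g := g.1) g.2
    have h0 : τ.pr (g.1.1.1 τ.f) = 0 := congrArg Multiplicative.toAdd hg
    rw [h0] at hc
    refine ⟨Multiplicative.ofAdd ⟨B τ.f (g.1.1.1 τ.f), mem_skew.2 (by simpa using hc)⟩, Subtype.ext (Subtype.ext ?_)⟩
    conv_rhs => rw [e]
    exact τ.sh_congr (hc := τ.skew_cond (mem_skew.2 (by simpa using hc))) h0.symm rfl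

variable (K : Subgroup (Herm.suG B))

/-- The image in the torus. -/
noncomputable def T2 : Subgroup Fˣ := (K.subgroupOf τ.P).map τ.aHom

/-- The image in the Levi part. -/
def I1 : Subgroup (Herm.suG τ.BW) := (K.subgroupOf τ.P1).map τ.lam

/-- The vector parts. -/
def Sb : AddSubgroup τ.W where
  carrier := {u | ∃ c hc, τ.sh u c hc ∈ K}
  zero_mem' := ⟨0, τ.zero_cond, by rw [τ.sh_zero]; exact K.one_mem⟩
  add_mem' := fun ⟨_, _, ha⟩ ⟨_, _, hb⟩ => ⟨_, _, by
    have := K.mul_mem ha hb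
    rwa [τ.sh_mul] at this⟩
  neg_mem' := fun ⟨_, _, ha⟩ => ⟨_, _, by
    have := K.inv_mem ha
    rwa [τ.sh_inv] at this⟩

/-- The central parts. -/
def Zp : AddSubgroup (skew θ) where
  carrier := {c | τ.tvc c ∈ K}
  zero_mem' := by
    show τ.tvc 0 ∈ K
    rw [τ.tvc_zero]; exact K.one_mem
  add_mem' := fun {a b} ha hb => by
    show τ.tvc (a + b) ∈ K
    rw [τ.tvc_add]; exact K.mul_mem ha hb
  neg_mem' := fun {a} ha => by
    show τ.tvc (-a) ∈ K
    rw [τ.tvc_neg]; exact K.inv_mem ha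

theorem mem_Sb {u : τ.W} : u ∈ τ.Sb K ↔ ∃ c hc, τ.sh u c hc ∈ K := Iff.rfl

theorem mem_Zp {c : skew θ} : c ∈ τ.Zp K ↔ τ.tvc c ∈ K := Iff.rfl

theorem mem_I1 {l : Herm.suG τ.BW} :
    l ∈ τ.I1 K ↔ ∃ g : τ.P1, g.1 ∈ K ∧ τ.lam g = l := Iff.rfl

theorem mem_T2 {a : Fˣ} : a ∈ τ.T2 K ↔ ∃ g : Herm.suG B, g ∈ K ∧ g.1 τ.y = (a : F) • τ.y := by
  constructor
  · rintro ⟨g, hg, rfl⟩; exact ⟨g.1, hg, τ.aval_spec g⟩
  · rintro ⟨g, hg, ha⟩; exact ⟨⟨g, a, ha⟩, hg, τ.aval_eq ha⟩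

theorem finite_su : Finite (Herm.suG B) := by
  have : Finite V := Module.finite_of_finite F
  have : Finite (V ≃ₗ[F] V) := Finite.of_injective (fun g : V ≃ₗ[F] V => (g : V → V)) DFunLike.coe_injective
  infer_instance

/-- The orbit formula at a point. -/
theorem relIndex_P (hn : 3 ≤ finrank F V) :
    K.relIndex τ.P = (τ.T2 K).index * ((τ.I1 K).index * ((τ.Sb K).index * (τ.Zp K).index)) := by
  have : Finite V := Module.finite_of_finite F
  have := finite_su (B := B)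
  have hι : (Subgroup.inclusion τ.P1_le_P).range = τ.aHom.ker := by
    ext g
    rw [Subgroup.inclusion_range, Subgroup.mem_subgroupOf, MonoidHom.mem_ker]
    refine ⟨fun hg => τ.aval_eq (by rw [mem_P1] at hg; simpa using hg), fun hg => ?_⟩
    have := τ.aval_spec g
    rw [show τ.aval g = 1 from hg, Units.val_one, one_smul] at this
    exact this
  have h1 := index_split τ.aHom (τ.aHom_surjective hn) _ hι (K.subgroupOf τ.P)
  have h2 := index_split τ.lam τ.lam_surjective τ.lam.ker.subtype τ.lam.ker.range_subtype (K.subgroupOf τ.P1)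
  have h3 := index_split τ.vec τ.vec_surjective τ.cen τ.cen_range ((K.subgroupOf τ.P1).comap τ.lam.ker.subtype)
  have e1 : (K.subgroupOf τ.P).comap (Subgroup.inclusion τ.P1_le_P) = K.subgroupOf τ.P1 := rfl
  have e2 : ((K.subgroupOf τ.P1).comap τ.lam.ker.subtype).map τ.vec = AddSubgroup.toSubgroup (τ.Sb K) := by
    ext u
    constructor
    · rintro ⟨g, hg, rfl⟩
      obtain ⟨hc, e⟩ := τ.eq_sh (g := g.1) g.2
      exact ⟨_, hc, e ▸ hg⟩
    · rintro ⟨c, hc, hu⟩
      refine ⟨⟨⟨_, τ.sh_mem_P1 _ c hc⟩, τ.lam_sh _ c hc⟩, hu, ?_⟩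
      show Multiplicative.ofAdd _ = u
      simp [sh_f, pr_W, pr_f, pr_y]
  have e3 : ((K.subgroupOf τ.P1).comap τ.lam.ker.subtype).comap τ.cen = AddSubgroup.toSubgroup (τ.Zp K) := by
    ext c; exact Iff.rfl
  rw [e1] at h1
  rw [e2, e3, AddSubgroup.index_toSubgroup, AddSubgroup.index_toSubgroup] at h3
  rw [Subgroup.relIndex, h1, h2, h3]
  rfl

theorem relIndex_le_index : K.relIndex τ.P ≤ K.index := by
  have := finite_su (B := B)
  rw [← Subgroup.relIndex_top_right]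
  exact Subgroup.relIndex_le_of_le_right le_top Subgroup.index_ne_zero_of_finite

end Fr

end Cfsg.Agent.MinIndexForm.SU
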