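import Cfsg.Agent.MinIndexForm.SU.Levels

/-!
The minimal index of a proper subgroup of a special unitary group in odd dimension at least five.
-/

set_option autoImplicit false

namespace Cfsg.Agent.MinIndexForm.SU

open Cfsg.Agent.Classical Module

universe uF uV
variable {F : Type uF} [Field F] [Finite F] {θ : F →+* F} {V : Type uV} [AddCommGroup V] [Module F V]
  [FiniteDimensional F V] {B : V →ₛₗ[θ] V →ₗ[F] F}

omit [Finite F] [FiniteDimensional F V] in
theorem conjS_one (H : Subgroup (Herm.suG B)) : conjS 1 H = H := by ext x; simp [mem_conjS]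

omit [Finite F] [FiniteDimensional F V] in
theorem hasRoot_smul (H : Subgroup (Herm.suG B)) {a : V} {r : F} (hB : Herm.IsHerm B) (ha : HasRoot H a) :
    HasRoot H (r • a) := by
  rintro g ⟨c, hc, hg⟩
  refine ha g ⟨c * θ r * r, ?_, fun x => ?_⟩
  · rw [map_mul, map_mul, hB.invol]
    linear_combination θ r * r * hc
  · rw [hg, map_smulₛₗ, LinearMap.smul_apply, smul_eq_mul, smul_smul]
    congr 2
    ring

omit [Finite F] [FiniteDimensional F V] in
theorem hasRoot_image {H : Subgroup (Herm.suG B)} {h : Herm.suG B} (hh : h ∈ H) {a : V} (ha : HasRoot H a) :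
    HasRoot H (h.1 a) := by
  have e : conjS h⁻¹ H = H := by
    ext x
    rw [mem_conjS, inv_inv]
    exact ⟨fun hx => by simpa [mul_assoc] using H.mul_mem (H.mul_mem (H.inv_mem hh) hx) hh,
      fun hx => H.mul_mem (H.mul_mem hh hx) (H.inv_mem hh)⟩
  have := hasRoot_of_conjS (g := h⁻¹) (H := H) (a := a) (by rw [e]; exact ha)
  rwa [inv_inv] at this

namespace Fr

variable (τ : Fr B) {H : Subgroup (Herm.suG B)}

theorem hasRoot_iff : HasRoot H τ.y ↔ τ.Zp H = ⊤ := by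
  constructor
  · intro h
    rw [eq_top_iff]
    intro c _
    exact h _ ⟨c, c.2, fun x => by simp [tvc, sh_coe]⟩
  · rintro h g ⟨c, hc, hg⟩
    have hm : (⟨c, hc⟩ : skew θ) ∈ τ.Zp H := h ▸ AddSubgroup.mem_top _
    rw [mem_Zp] at hm
    convert hm using 1
    exact Subtype.ext (LinearEquiv.ext fun x => by simp [tvc, sh_coe, hg])

theorem sh_mem (hS : τ.Sb H = ⊤) (hZ : τ.Zp H = ⊤) (u : τ.W) (c : F) (hc : c + θ c = -B (u : V) (u : V)) :
    τ.sh u c hc ∈ H := by
  obtain ⟨c', hc', hm⟩ := (τ.mem_Sb H).1 (hS ▸ AddSubgroup.mem_top u)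
  have hd : c - c' ∈ skew θ := by
    rw [mem_skew, map_sub]; linear_combination hc - hc'
  have hm2 : τ.tvc ⟨_, hd⟩ ∈ H := (τ.mem_Zp H).1 (hZ ▸ AddSubgroup.mem_top _)
  convert H.mul_mem hm hm2 using 1
  rw [tvc, τ.sh_mul]
  exact τ.sh_congr (add_zero u).symm (by simp)

end Fr

/-- From a non-orthogonal pair, the points with root groups spread. -/
theorem root_of_pair {H : Subgroup (Herm.suG B)} (h : Herm.IsHerm B)
    (hall : ∀ ρ : Fr B, HasRoot H ρ.y → ρ.Sb H = ⊤) {a b : V} (haa : B a a = 0) (hbb : B b b = 0) (hab : B a b ≠ 0)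
    (ha : HasRoot H a) (hb : HasRoot H b) {x : V} (hxx : B x x = 0) (hax : B a x ≠ 0) : HasRoot H x := by
  let ρ : Fr B := ⟨h, a, (B a b)⁻¹ • b, haa, by rw [Herm.smul_self h, hbb, mul_zero],
    by rw [map_smul, smul_eq_mul, inv_mul_cancel₀ hab]⟩
  have hρy : HasRoot H ρ.y := ha
  set x' := (B a x)⁻¹ • x with hx'
  have hyx : B ρ.y x' = 1 := by rw [hx', map_smul, smul_eq_mul]; exact inv_mul_cancel₀ hax
  have hxx' : B x' x' = 0 := by rw [hx', Herm.smul_self h, hxx, mul_zero]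
  have hd := ρ.B_decomp x' x'
  rw [hxx', hyx, map_one, mul_one, one_mul] at hd
  have hc : B ρ.f x' + θ (B ρ.f x') = -B (ρ.pr x' : V) (ρ.pr x' : V) := by linear_combination -hd
  have hs := ρ.sh_mem (hall ρ hρy) (ρ.hasRoot_iff.1 hρy) (ρ.pr x') _ hc
  have hr := hasRoot_image hs (hasRoot_smul H (r := (B a b)⁻¹) h hb : HasRoot H ρ.f)
  rw [ρ.sh_f] at hr
  have e : ρ.f + (ρ.pr x' : V) + B ρ.f x' • ρ.y = x' := by
    conv_rhs => rw [ρ.decomp x', hyx, one_smul]
    abel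
  rw [e] at hr
  have := hasRoot_smul H (r := B a x) h hr
  rwa [hx', smul_inv_smul₀ hax] at this

/-- Somewhere a rooted point has a proper vector part. -/
theorem exists_fixed_frame {H : Subgroup (Herm.suG B)} (h : Herm.IsHerm B) (hn : 3 ≤ finrank F V)
    (hn3 : finrank F V ≠ 3) (hH : H ≠ ⊤) {a b : V} (haa : B a a = 0) (hbb : B b b = 0) (hab : B a b ≠ 0)
    (ha : HasRoot H a) (hb : HasRoot H b) : ∃ ρ : Fr B, HasRoot H ρ.y ∧ ρ.Sb H ≠ ⊤ := by
  by_contra hc
  push Not at hc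
  refine hH (eq_top_of_roots h hn (.inr hn3) fun x hx0 hxx => ?_)
  have ha0 : a ≠ 0 := fun h0 => hab (by simp [h0])
  obtain ⟨z, hzz, hza, hzx⟩ := Herm.exists_common h ha0 haa hx0 hxx
  have haz : B a z ≠ 0 := fun e => hza ((Herm.eq_zero_comm h).1 e)
  have hz := root_of_pair h hc haa hbb hab ha hb hzz haz
  exact root_of_pair h hc hzz haa hza hz ha hxx hzx

/-- The points fixed by a root group, read on cosets. -/
def FixedR (τ : Fr B) (H : Subgroup (Herm.suG B)) (g : Herm.suG B) : Prop := ∀ c, g * τ.tvc c * g⁻¹ ∈ H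

theorem FixedR_left (τ : Fr B) {H : Subgroup (Herm.suG B)} {h : Herm.suG B} (hh : h ∈ H) (g : Herm.suG B) :
    FixedR τ H (h * g) ↔ FixedR τ H g := by
  refine forall_congr' fun c => ?_
  rw [show h * g * τ.tvc c * (h * g)⁻¹ = h * (g * τ.tvc c * g⁻¹) * h⁻¹ by group]
  exact ⟨fun hx => by simpa [mul_assoc] using H.mul_mem (H.mul_mem (H.inv_mem hh) hx) hh,
    fun hx => H.mul_mem (H.mul_mem hh hx) (H.inv_mem hh)⟩

theorem FixedR_right (τ : Fr B) {H : Subgroup (Herm.suG B)} {k : Herm.suG B} (hk : k ∈ τ.P) (g : Herm.suG B) :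
    FixedR τ H (g * k) ↔ FixedR τ H g := by
  have key : ∀ k ∈ τ.P, ∀ g, FixedR τ H g → FixedR τ H (g * k) := by
    rintro k ⟨a, ha⟩ g hg c
    obtain ⟨c', hc', e, -⟩ := τ.conj_sh ha 0 (c : F) (τ.skew_cond c.2)
    have hskew : c' ∈ skew θ := by rw [mem_skew]; simpa using hc'
    have e' : k * τ.tvc c * k⁻¹ = τ.tvc ⟨c', hskew⟩ := by
      rw [Fr.tvc, e, Fr.tvc]; exact τ.sh_congr (by simp) rfl
    rw [show g * k * τ.tvc c * (g * k)⁻¹ = g * (k * τ.tvc c * k⁻¹) * g⁻¹ by group, e']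
    exact hg _
  exact ⟨fun hg => by simpa using key _ (inv_mem hk) _ hg, key k hk g⟩

theorem FixedR_iff (τ : Fr B) (H : Subgroup (Herm.suG B)) (g : Herm.suG B) :
    FixedR τ H g⁻¹ ↔ τ.Zp (conjS g H) = ⊤ := by
  rw [eq_top_iff]
  refine ⟨fun hg c _ => ?_, fun hg c => ?_⟩
  · rw [Fr.mem_Zp, mem_conjS]
    simpa using hg c
  · have := hg (AddSubgroup.mem_top c)
    rw [Fr.mem_Zp, mem_conjS] at this
    simpa using this

omit [Finite F] [FiniteDimensional F V] in
/-- An orbit inside an invariant set of cosets. -/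
theorem orbit_le {G : Type*} [Group G] [Finite G] (H P : Subgroup G) (Q : G ⧸ H → Prop)
    (hQ : ∀ k ∈ P, ∀ x, Q x → Q (k • x)) {g : G} (hg : Q g) :
    (H.map (MulAut.conj g).toMonoidHom).relIndex P ≤ Nat.card {x : G ⧸ H // Q x} := by
  have hst : MulAction.stabilizer P (g : G ⧸ H) = (H.map (MulAut.conj g).toMonoidHom).subgroupOf P := by
    ext k
    rw [MulAction.mem_stabilizer_iff, Subgroup.mem_subgroupOf, Subgroup.mem_map_equiv, MulAut.conj_symm_apply]
    show ((k.1 * g : G) : G ⧸ H) = g ↔ _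
    rw [eq_comm, QuotientGroup.eq, ← mul_assoc]
  rw [Subgroup.relIndex, ← hst, MulAction.index_stabilizer, ← Nat.card_coe_set_eq]
  refine Nat.card_le_card_of_injective (fun x => (⟨x.1, ?_⟩ : {x : G ⧸ H // Q x})) fun x z e => ?_
  · obtain ⟨k, hk⟩ := x.2
    rw [← hk]
    exact hQ k.1 k.2 _ hg
  · exact Subtype.ext (congrArg Subtype.val e :)

/-- The bound, one dimension step. -/
theorem index_step (h : Herm.IsHerm B) {j : ℕ} (hj : 1 ≤ j) (hd : finrank F V = 2 * j + 3)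
    (hIH : Fr.Below.{uF, uV} θ j) (H : Subgroup (Herm.suG B)) (hH : H ≠ ⊤) :
    Nc (Nat.card (Herm.fixField θ)) (j + 1) ≤ H.index := by
  classical
  have := Fr.finite_su (B := B)
  have hq := two_le_fix h.toIsInvol
  set q := Nat.card (Herm.fixField θ) with hqd
  obtain ⟨v, hv0, hvv, hv⟩ : ∃ v : V, v ≠ 0 ∧ B v v = 0 ∧ ¬HasRoot H v := by
    by_contra hc
    push Not at hc
    exact hH (eq_top_of_roots h (by omega) (.inr (by omega)) hc)
  obtain ⟨τ0, rfl⟩ := exists_frame h hv0 hvv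
  rw [τ0.hasRoot_iff] at hv
  by_cases hI : τ0.I1 H = ⊤
  swap
  · exact (τ0.moved_ge H hj hd hIH hv hI).trans (τ0.relIndex_le_index H)
  obtain ⟨a, b, haa, hbb, hab, ha, hb⟩ := exists_root_pair τ0 (τ0.Sb_eq_bot H hj hd hv hI) hI j hj
    (by have := τ0.finrank_W; omega)
  obtain ⟨ρ, hρ, hS⟩ := exists_fixed_frame h (by omega) (by omega) hH haa hbb hab ha hb
  obtain ⟨g, hg⟩ := trans_iso h (by omega) τ0.y_ne τ0.hyy ρ.y_ne ρ.hyy
  have hmove : ρ.Zp (conjS g H) ≠ ⊤ := fun hc => by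
    have h1 := hasRoot_of_conjS (ρ.hasRoot_iff.2 hc)
    have e : (g⁻¹).1 ρ.y = τ0.y := by
      rw [← hg, ← LinearEquiv.mul_apply, ← Subgroup.coe_mul, inv_mul_cancel]; rfl
    rw [e] at h1
    exact hv (τ0.hasRoot_iff.1 h1)
  by_cases hI' : ρ.I1 (conjS g H) = ⊤
  swap
  · have := (ρ.moved_ge (conjS g H) hj hd hIH hmove hI').trans (ρ.relIndex_le_index _)
    rwa [index_conjS] at this
  have hOm := ρ.moved_top (conjS g H) hj hd hmove hI'
  have hOf := ρ.fixed_ge H hj hd hIH hS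
  rw [← hqd] at hOm hOf
  set Q : Herm.suG B ⧸ H → Prop := fun x => FixedR ρ H x.out⁻¹ with hQd
  have hQmk : ∀ g : Herm.suG B, Q g ↔ ρ.Zp (conjS g H) = ⊤ := fun g => by
    obtain ⟨i, hi⟩ := QuotientGroup.mk_out_eq_mul H g
    rw [← FixedR_iff]
    show FixedR ρ H _ ↔ _
    rw [hi, mul_inv_rev, FixedR_left ρ (inv_mem i.2)]
  have hQinv : ∀ k ∈ ρ.P, ∀ x, Q (k • x) ↔ Q x := fun k hk x => by
    induction x using QuotientGroup.induction_on with
    | _ g =>
      show Q ((k * g : Herm.suG B) : Herm.suG B ⧸ H) ↔ _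
      rw [hQmk, hQmk, ← FixedR_iff, ← FixedR_iff, mul_inv_rev, FixedR_right ρ (inv_mem hk)]
  have hFix : H.relIndex ρ.P ≤ Nat.card {x // Q x} := by
    have := orbit_le H ρ.P Q (fun k hk x hx => (hQinv k hk x).2 hx) (g := 1)
      ((hQmk 1).2 (by rw [conjS_one]; exact ρ.hasRoot_iff.1 hρ))
    rwa [← conjS, conjS_one] at this
  have hMov : (conjS g H).relIndex ρ.P ≤ Nat.card {x // ¬Q x} :=
    orbit_le H ρ.P (fun x => ¬Q x) (fun k hk x hx hx' => hx ((hQinv k hk x).1 hx')) (fun hc => hmove ((hQmk g).1 hc))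
  have hsum : Nat.card {x // Q x} + Nat.card {x // ¬Q x} = H.index := by
    rw [← Nat.card_sum, Nat.card_congr (Equiv.sumCompl Q)]; rfl
  rw [Nc_succ q j hq]
  by_contra hlt
  have hd1 : H.index = q ^ 2 * Nc q j + q ^ (4 * j + 3) := by omega
  have hdc := double_count H ρ.P (FixedR ρ H) (fun x hx g => FixedR_left ρ hx g) fun k hk g => FixedR_right ρ hk g
  rw [index_P ρ (j + 1) (by omega) (by omega), ← hqd, Nc_succ q j hq, hd1] at hdc
  have hdvd : H.index ∣ Nat.card {x // Q x} := by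
    rw [hd1]
    exact (Nat.coprime_self_add_right.2 (Nat.coprime_one_right _)).dvd_of_dvd_mul_left ⟨_, hdc.symm⟩
  have h0 : 0 < q ^ (4 * j + 3) := by positivity
  have hN0 : 0 < q ^ 2 * Nc q j := by
    have : 0 < Nc q j := Nat.mul_pos (Nat.succ_pos _) (Finset.sum_pos (fun i _ => by positivity) ⟨0, Finset.mem_range.2 hj⟩)
    positivity
  have := Nat.le_of_dvd (by omega) hdvd
  omega

/-- The bound in every odd dimension from five on. -/
theorem index_bound (hq : Herm.IsInvol θ) : ∀ j, Fr.Below.{uF, uV} θ j := by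
  intro j
  induction j with
  | zero => exact fun h => absurd h (by omega)
  | succ j ih =>
    intro h2 W _ _ _ BW hB hdW H hH
    exact index_step hB (by omega) (by omega) ih H hH

end Cfsg.Agent.MinIndexForm.SU
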