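import Cfsg.Agent.MinIndexForm.SU.Points
import Cfsg.Agent.MinIndexPSU3.Main

/-!
The three-dimensional bound, transported to an arbitrary Hermitian space.
-/

set_option autoImplicit false

namespace Cfsg.Agent.MinIndexForm.SU

open Cfsg.Agent.Classical Module
open scoped commutatorElement

universe uF uV uW
variable {F : Type uF} [Field F] {θ : F →+* F}

theorem theta_eq_pow [Finite F] (hθ : Herm.IsInvol θ) (x : F) : θ x = x ^ Nat.card (Herm.fixField θ) := by
  have : Fintype F := Fintype.ofFinite F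
  have hF : Fintype.card F = Nat.card (Herm.fixField θ) ^ 2 := by
    rw [← Nat.card_eq_fintype_card]; exact Herm.card_eq_fix_sq hθ
  obtain ⟨σ, hσ, hσi, hσc, -⟩ := exists_powHom hF
  set q := Nat.card (Herm.fixField θ) with hq
  have hfix : ∀ a : F, σ a = a → θ a = a := fun a ha => by
    rcases eq_or_ne a 0 with rfl | ha0
    · simp
    · refine fix_of_pow hθ (a := Units.mk0 a ha0) (Units.ext ?_)
      have h1 : a ^ q = a := (hσ a).symm.trans ha
      have h2 := two_le_fix hθ
      rw [show q = q - 1 + 1 by omega, pow_succ] at h1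
      simpa using mul_right_cancel₀ ha0 (h1.trans (one_mul a).symm)
  have hs : θ (x + σ x) = x + σ x := hfix _ (by rw [map_add, hσi.invol, add_comm])
  have hp : θ (x * σ x) = x * σ x := hfix _ (by rw [map_mul, hσi.invol, mul_comm])
  rw [map_add] at hs
  rw [map_mul] at hp
  rw [← hσ]
  have e : (θ x - x) * (θ x - σ x) = 0 := by linear_combination θ x * hs - hp
  rcases mul_eq_zero.1 e with e | e
  · rw [sub_eq_zero] at e
    rw [e]
    rcases eq_or_ne x 0 with rfl | hx0
    · exact (map_zero σ).symm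
    · have h1 := pow_fix hθ e hx0
      have h2 := two_le_fix hθ
      rw [hσ, show q = q - 1 + 1 by omega, pow_succ, h1, one_mul]
  · exact sub_eq_zero.1 e

variable {V : Type uV} {V' : Type uW} [AddCommGroup V] [Module F V] [AddCommGroup V'] [Module F V']
  {B : V →ₛₗ[θ] V →ₗ[F] F} {B' : V' →ₛₗ[θ] V' →ₗ[F] F}

/-- An isometry between spaces identifies their special unitary groups. -/
def suCongr (e : V ≃ₗ[F] V') (he : ∀ x z, B' (e x) (e z) = B x z) : Herm.suG B ≃* Herm.suG B' where
  toFun g := ⟨(e.symm.trans g.1).trans e, fun x z => by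
    show B' (e (g.1 (e.symm x))) (e (g.1 (e.symm z))) = _
    rw [he, g.2.1, ← he, e.apply_symm_apply, e.apply_symm_apply], by rw [LinearEquiv.det_conj]; exact g.2.2⟩
  invFun g := ⟨(e.trans g.1).trans e.symm, fun x z => by
    show B (e.symm (g.1 (e x))) (e.symm (g.1 (e z))) = _
    rw [← he, e.apply_symm_apply, e.apply_symm_apply, g.2.1, he], by
      have h := LinearEquiv.det_conj g.1 e.symm
      rw [e.symm_symm] at h
      rw [h]; exact g.2.2⟩
  left_inv g := Subtype.ext (LinearEquiv.ext fun x => by simp)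
  right_inv g := Subtype.ext (LinearEquiv.ext fun x => by simp)
  map_mul' g g' := Subtype.ext (LinearEquiv.ext fun x => by simp [LinearEquiv.mul_apply])

variable [Finite F] [FiniteDimensional F V]

theorem commutator_top (h : Herm.IsHerm B) (hn : 3 ≤ finrank F V)
    (hr : (∃ r : F, θ r = r ∧ r ≠ 0 ∧ r ≠ 1) ∨ finrank F V ≠ 3) : commutator (Herm.suG B) = ⊤ := by
  refine eq_top_of_roots h hn hr fun v _ hv g ⟨c, hc, hg⟩ => ?_
  obtain ⟨a, b, hab⟩ := Herm.tvU_eq_comm h hn hv hc
  rw [show g = ⁅a, b⁆ from Subtype.ext (LinearEquiv.ext fun x => by rw [hab, hg]; rfl)]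
  exact Subgroup.commutator_mem_commutator (Subgroup.mem_top _) (Subgroup.mem_top _)

/-- A proper subgroup of a three-dimensional special unitary group has index at least q³ + 1. -/
theorem base_three (h : Herm.IsHerm B) (hd : finrank F V = 3) (hq : 3 ≤ Nat.card (Herm.fixField θ))
    (h5 : Nat.card (Herm.fixField θ) ≠ 5) (J : Subgroup (Herm.suG B)) (hJ : J ≠ ⊤) :
    Nat.card (Herm.fixField θ) ^ 3 + 1 ≤ J.index := by
  have : Fintype F := Fintype.ofFinite F
  have := Fr.finite_su (B := B)
  set q := Nat.card (Herm.fixField θ) with hqd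
  have hσ : ∀ x, θ x = x ^ q := theta_eq_pow h.toIsInvol
  have hF : Fintype.card F = q ^ 2 := by
    rw [← Nat.card_eq_fintype_card]; exact Herm.card_eq_fix_sq h.toIsInvol
  have hu : AutPSU.UCtx θ q := ⟨h.toIsInvol, hσ, rfl, by omega⟩
  obtain ⟨b, hb⟩ := Herm.exists_orthonormal h
  let b' : Basis (Fin 3) F V := b.reindex (finCongr hd)
  have hb' : Herm.IsON B b' := fun i j => by
    simp only [b', Basis.reindex_apply]
    rw [hb]
    simp
  let e : Cfsg.SU 3 F q ≃* Herm.suG B :=
    (suEquiv 3 hσ).trans (suCongr b'.equivFun fun x z => (hermB_repr b' hb' x z).symm).symm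
  set J' := J.comap e.toMonoidHom with hJ'
  set H := J' ⊔ Subgroup.center (Cfsg.SU 3 F q) with hH
  have hidx : J'.index = J.index := Subgroup.index_comap_of_surjective _ e.surjective
  have hne : H ≠ ⊤ := by
    intro htop
    refine hJ (eq_top_iff.2 ?_)
    obtain ⟨r, hr, hr1⟩ : ∃ r : F, θ r = r ∧ r ≠ 0 ∧ r ≠ 1 := by
      by_contra hc
      push Not at hc
      have : Nat.card (Herm.fixField θ) ≤ Nat.card (Fin 2) :=
        Nat.card_le_card_of_surjective (fun i : Fin 2 => if i = 0 then 0 else 1) fun r => by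
          rcases eq_or_ne (r : F) 0 with hr0 | hr0
          · exact ⟨0, Subtype.ext (by simp [hr0])⟩
          · exact ⟨1, Subtype.ext (by simp [hc r r.2 hr0])⟩
      rw [Nat.card_fin] at this
      omega
    rw [← commutator_top h (by omega) (.inl ⟨r, hr, hr1⟩), commutator_def, Subgroup.commutator_le]
    intro x _ y _
    obtain ⟨x, rfl⟩ := e.surjective x
    obtain ⟨y, rfl⟩ := e.surjective y
    have hsplit : ∀ w : Cfsg.SU 3 F q, ∃ a ∈ J', ∃ z ∈ Subgroup.center (Cfsg.SU 3 F q), w = a * z := fun w => by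
      have hw : w ∈ H := htop ▸ Subgroup.mem_top w
      rw [hH, ← SetLike.mem_coe, Subgroup.mul_normal J' (Subgroup.center _)] at hw
      obtain ⟨a, ha, z, hz, rfl⟩ := hw
      exact ⟨a, ha, z, hz, rfl⟩
    obtain ⟨a, ha, z, hz, rfl⟩ := hsplit x
    obtain ⟨c, hc, w, hw, rfl⟩ := hsplit y
    have key : ⁅a * z, c * w⁆ = ⁅a, c⁆ := by
      rw [Subgroup.mem_center_iff] at hz hw
      simp only [commutatorElement_def, mul_inv_rev]
      have h1 : z * (c * w) * z⁻¹ = c * w := by rw [← hz]; group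
      calc a * z * (c * w) * (z⁻¹ * a⁻¹) * (w⁻¹ * c⁻¹) = a * (z * (c * w) * z⁻¹) * a⁻¹ * w⁻¹ * c⁻¹ := by group
        _ = a * c * (w * a⁻¹) * w⁻¹ * c⁻¹ := by rw [h1]; group
        _ = a * c * a⁻¹ * c⁻¹ := by rw [← hw a⁻¹]; group
    rw [← map_commutatorElement, key, map_commutatorElement]
    exact J.mul_mem (J.mul_mem (J.mul_mem ha hc) (J.inv_mem ha)) (J.inv_mem hc)
  have h1 := MinIndexPSU3.index_bound hu hF hq h5 H hne le_sup_right
  have : Finite (Cfsg.SU 3 F q) := Finite.of_equiv _ e.symm.toEquiv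
  rw [← hidx]
  exact h1.trans (Nat.le_of_dvd (Nat.pos_of_ne_zero Subgroup.index_ne_zero_of_finite)
    (Subgroup.index_dvd_of_le le_sup_left))

end Cfsg.Agent.MinIndexForm.SU
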