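import Cfsg.Agent.MinIndexForm.SU.Split
import Cfsg.Agent.Classical.HermGroup

/-!
Vectors with a given norm: their number, the transitivity of the special unitary group on them, and the coset
count coming from an invariant set.
-/

set_option autoImplicit false

namespace Cfsg.Agent.MinIndexForm.SU

open Cfsg.Agent.Classical Module Matrix

universe uF uV
variable {F : Type uF} {V : Type uV} [Field F] [AddCommGroup V] [Module F V] {θ : F →+* F}
  {B : V →ₛₗ[θ] V →ₗ[F] F} [Finite F] [FiniteDimensional F V]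

/-- An isometry has determinant of norm one. -/
theorem det_norm (h : Herm.IsHerm B) {g : V ≃ₗ[F] V} (hg : ∀ x z, B (g x) (g z) = B x z) :
    (LinearEquiv.det g : F) * θ (LinearEquiv.det g : F) = 1 := by
  obtain ⟨bb, hbb⟩ := Herm.exists_orthonormal h
  let M := LinearMap.toMatrix bb bb (g : V →ₗ[F] V)
  have hON : Herm.IsON B fun i => g (bb i) := fun i j => by rw [hg]; exact hbb i j
  have hM : ∀ i j, M i j = B (bb i) (g (bb j)) := fun i j => by
    rw [show M i j = bb.repr (g (bb j)) i from LinearMap.toMatrix_apply _ _ _ _ _]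
    conv_rhs => rw [← bb.sum_repr (g (bb j)), map_sum]
    rw [Finset.sum_eq_single i (fun k _ hk => by rw [map_smul, hbb i k, if_neg (Ne.symm hk), smul_zero])
      (by simp), map_smul, hbb i i, if_pos rfl, smul_eq_mul, mul_one]
  have hU : (M.map θ)ᵀ * M = 1 := by
    ext i j
    rw [Matrix.mul_apply, Matrix.one_apply, ← hON i j]
    show _ = B (g (bb i)) (g (bb j))
    conv_rhs => rw [← bb.sum_repr (g (bb i)), map_sum, LinearMap.sum_apply]
    refine Finset.sum_congr rfl fun k _ => ?_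
    rw [Matrix.transpose_apply, Matrix.map_apply, LinearMap.map_smulₛₗ, LinearMap.smul_apply, smul_eq_mul, ← hM,
      show bb.repr (g (bb i)) k = M k i from (LinearMap.toMatrix_apply _ _ _ _ _).symm]
  have h1 := congrArg Matrix.det hU
  rw [Matrix.det_mul, Matrix.det_transpose, Matrix.det_one, ← RingHom.mapMatrix_apply, ← RingHom.map_det,
    show M.det = (LinearEquiv.det g : F) from by rw [LinearEquiv.coe_det, ← LinearMap.det_toMatrix bb]] at h1
  rwa [mul_comm]

omit [Finite F] [FiniteDimensional F V] in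
theorem li_single {w : V} (hw : w ≠ 0) : LinearIndependent F ![w] := by
  rw [linearIndependent_unique_iff]
  simpa using hw

/-- The special isometries are transitive on vectors with the same norm, given a spare unit vector. -/
theorem exists_su_map (h : Herm.IsHerm B) {u w : V} (hu : u ≠ 0) (hw : w ≠ 0) (huw : B u u = B w w)
    (hperp : ∃ e, B e e = 1 ∧ B e w = 0) : ∃ g : Herm.suG B, g.1 u = w := by
  obtain ⟨g, hg, hgu⟩ := Herm.witt_family h (finrank F V - 1) ![u] ![w] rfl (li_single hu) (li_single hw)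
    fun i j => by fin_cases i; fin_cases j; simpa using huw
  obtain ⟨e, he, hew⟩ := hperp
  have hd := det_norm h hg
  have hd0 : (LinearEquiv.det g : F) ≠ 0 := left_ne_zero_of_mul_eq_one hd
  have hμ : (LinearEquiv.det g : F)⁻¹ * θ (LinearEquiv.det g : F)⁻¹ = 1 := by
    rw [map_inv₀, ← mul_inv, hd, inv_one]
  refine ⟨⟨dil he _ hμ * g, fun x z => ?_, Units.ext ?_⟩, ?_⟩
  · rw [LinearEquiv.mul_apply, LinearEquiv.mul_apply, dil_isometry h he _ hμ, hg]
  · rw [map_mul, Units.val_mul, det_dil, inv_mul_cancel₀ hd0, Units.val_one]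
  · show dil he _ hμ (g u) = w
    have := hgu 0
    simp only [Matrix.cons_val_zero] at this
    rw [this, dil_apply, hew, mul_zero, zero_smul, add_zero]

theorem trans_iso (h : Herm.IsHerm B) (hn : 3 ≤ finrank F V) {u w : V} (hu : u ≠ 0) (hu0 : B u u = 0) (hw : w ≠ 0)
    (hw0 : B w w = 0) : ∃ g : Herm.suG B, g.1 u = w := by
  obtain ⟨τ, rfl⟩ := exists_frame h hw hw0
  obtain ⟨e, he⟩ := exists_unit τ.hB_W (by have := τ.finrank_W; omega)
  exact exists_su_map h hu hw (hu0.trans hw0.symm) ⟨e, he, τ.Bwy e⟩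

theorem trans_aniso (h : Herm.IsHerm B) (hn : 2 ≤ finrank F V) {u w : V} (hw0 : B w w ≠ 0) (huw : B u u = B w w) :
    ∃ g : Herm.suG B, g.1 u = w := by
  obtain ⟨c, hc⟩ := Herm.exists_unit_of_ne_zero h hw0
  have ha : Herm.IsON B ![c • w] := fun i j => by fin_cases i; fin_cases j; simpa using hc
  obtain ⟨e, he⟩ := Herm.exists_snoc h ha (by omega)
  have h1 : B e e = 1 := by simpa using he (Fin.last 1) (Fin.last 1)
  have h2 : B e (c • w) = 0 := by
    have := he (Fin.last 1) (Fin.castSucc 0)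
    rw [Fin.snoc_last, Fin.snoc_castSucc, if_neg (by decide)] at this
    simpa using this
  have hc0 : c ≠ 0 := fun h0 => by simp [h0] at hc
  rw [map_smul, smul_eq_mul, mul_eq_zero] at h2
  exact exists_su_map h (fun h0 => hw0 (by rw [← huw]; simp [h0]))
    (fun h0 => hw0 (by simp [h0])) huw ⟨e, h1, h2.resolve_left hc0⟩

omit [Finite F] [FiniteDimensional F V] in
theorem hermB_repr {n : ℕ} (b : Basis (Fin n) F V) (hb : Herm.IsON B b) (x z : V) :
    B x z = hermB n θ (b.equivFun x) (b.equivFun z) := by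
  conv_lhs => rw [← b.sum_equivFun x, ← b.sum_equivFun z]
  simp only [map_sum, LinearMap.sum_apply, map_smulₛₗ, LinearMap.smul_apply, map_smul, smul_eq_mul, hermB_apply]
  refine Finset.sum_congr rfl fun i _ => ?_
  rw [Finset.sum_eq_single i (fun k _ hk => by rw [hb k i, if_neg hk]; simp) (by simp), hb i i, if_pos rfl]
  simp [mul_comm]

theorem card_norm_eq (h : Herm.IsHerm B) {n : ℕ} (hn : finrank F V = n) (a : F) :
    Nat.card {x : V // B x x = a} = Nat.card {v : Fin n → F // hermB n θ v v = a} := by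
  subst hn
  obtain ⟨b, hb⟩ := Herm.exists_orthonormal h
  exact Nat.card_congr (b.equivFun.toEquiv.subtypeEquiv fun x => by
    rw [hermB_repr b hb x x]; rfl)

theorem card_iso (h : Herm.IsHerm B) {n : ℕ} (hn : finrank F V = n) (hodd : Odd n) :
    Nat.card {x : V // x ≠ 0 ∧ B x x = 0} =
      (Nat.card (Herm.fixField θ) ^ n + 1) * (Nat.card (Herm.fixField θ) ^ (n - 1) - 1) := by
  have : Fintype F := Fintype.ofFinite F
  have : Finite V := Module.finite_of_finite F
  have h1 := card_herm_isotropic h.toIsInvol rfl n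
  rw [if_neg (Nat.not_even_iff_odd.2 hodd), ← card_norm_eq h hn] at h1
  have e : Nat.card {x : V // B x x = 0} = Nat.card {x : V // x ≠ 0 ∧ B x x = 0} + 1 := by
    classical
    have : Fintype V := Fintype.ofFinite V
    simp only [Nat.card_eq_fintype_card, Fintype.card_subtype]
    rw [← Finset.card_insert_of_notMem (a := (0 : V)) (by simp)]
    congr 1
    ext x
    rcases eq_or_ne x 0 with rfl | hx <;> simp [*]
  omega

theorem card_aniso (h : Herm.IsHerm B) {n : ℕ} (hn : finrank F V = n) (hodd : Odd n) {a : F} (ha : θ a = a)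
    (ha0 : a ≠ 0) : Nat.card {x : V // B x x = a} =
      Nat.card (Herm.fixField θ) ^ (n - 1) * (Nat.card (Herm.fixField θ) ^ n + 1) := by
  have : Fintype F := Fintype.ofFinite F
  rw [card_norm_eq h hn, card_herm_scale h.toIsInvol n ha ha0, card_herm_one h.toIsInvol rfl,
    if_neg (Nat.not_even_iff_odd.2 hodd)]

omit [Finite F] [FiniteDimensional F V] in
/-- An invariant set gives cosets. -/
theorem orbit_count_gen {G X : Type*} [Group G] [Finite G] [Finite X] (f : G → X → X)
    (hone : ∀ x, f 1 x = x) (hmul : ∀ g g' x, f (g * g') x = f g (f g' x)) {C U : Set X}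
    (hC : ∀ g, ∀ x ∈ C, f g x ∈ C) (htr : ∀ x ∈ C, ∀ z ∈ C, ∃ g, f g x = z) (J : Subgroup G)
    (hU : ∀ g ∈ J, ∀ x ∈ U, f g x ∈ U) (hne : (U ∩ C).Nonempty) :
    Nat.card C ≤ J.index * Nat.card ↥(U ∩ C) := by
  obtain ⟨u0, hu0U, hu0C⟩ := hne
  rw [Subgroup.index, ← Nat.card_prod]
  refine Nat.card_le_card_of_surjective (fun x => (⟨f x.1.out x.2.1, hC _ _ x.2.2.2⟩ : C)) fun x => ?_
  obtain ⟨g, hg⟩ := htr u0 hu0C x.1 x.2
  obtain ⟨i, hi⟩ := QuotientGroup.mk_out_eq_mul J g
  refine ⟨((g : G ⧸ J), ⟨f (i : G)⁻¹ u0, hU _ (inv_mem i.2) _ hu0U, hC _ _ hu0C⟩), Subtype.ext ?_⟩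
  show f (g : G ⧸ J).out (f (i : G)⁻¹ u0) = x.1
  rw [hi, hmul, ← hmul (i : G), mul_inv_cancel, hone, hg]

/-- An invariant set of vectors gives cosets. -/
theorem orbit_count {C U : Set V} (hC : ∀ g : Herm.suG B, ∀ x ∈ C, g.1 x ∈ C)
    (htr : ∀ x ∈ C, ∀ z ∈ C, ∃ g : Herm.suG B, g.1 x = z) (J : Subgroup (Herm.suG B))
    (hU : ∀ g ∈ J, ∀ x ∈ U, g.1 x ∈ U) (hne : (U ∩ C).Nonempty) :
    Nat.card C ≤ J.index * Nat.card ↥(U ∩ C) := by
  have : Finite V := Module.finite_of_finite F
  have := Fr.finite_su (B := B)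
  exact orbit_count_gen (fun g x => g.1 x) (fun _ => rfl) (fun _ _ _ => rfl) hC htr J hU hne

omit [Finite F] [FiniteDimensional F V] in
/-- The vectors with a given norm form an invariant set. -/
theorem norm_inv (a : F) (g : Herm.suG B) {x : V} (hx : x ≠ 0 ∧ B x x = a) : g.1 x ≠ 0 ∧ B (g.1 x) (g.1 x) = a :=
  ⟨fun h0 => hx.1 (g.1.map_eq_zero_iff.1 h0), by rw [g.2.1]; exact hx.2⟩

end Cfsg.Agent.MinIndexForm.SU
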