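import Cfsg.Agent.Classical.HermSimple

/-!
The stabiliser of an isotropic point in a special unitary group: a hyperbolic pair, the complement, the Levi
extensions and the unipotent elements.
-/

set_option autoImplicit false

namespace Cfsg.Agent.MinIndexForm.SU

open Cfsg.Agent.Classical Module

variable {F V : Type*} [Field F] [AddCommGroup V] [Module F V] {θ : F →+* F} {B : V →ₛₗ[θ] V →ₗ[F] F}

/-- A non-degenerate Hermitian form with a hyperbolic pair. -/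
structure Fr (B : V →ₛₗ[θ] V →ₗ[F] F) where
  hB : Herm.IsHerm B
  y : V
  f : V
  hyy : B y y = 0
  hff : B f f = 0
  hyf : B y f = 1

theorem exists_frame (h : Herm.IsHerm B) {v : V} (hv : v ≠ 0) (hvv : B v v = 0) : ∃ τ : Fr B, τ.y = v := by
  obtain ⟨w, hw, hvw⟩ := Herm.exists_hyp_partner h hv hvv
  exact ⟨⟨h, v, w, hvv, hw, hvw⟩, rfl⟩

namespace Fr

variable (τ : Fr B)

theorem hfy : B τ.f τ.y = 1 := by rw [← τ.hB.symm, τ.hyf, map_one]

theorem y_ne : τ.y ≠ 0 := fun h => by simpa [h] using τ.hyf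

/-- The complement of the hyperbolic pair. -/
def W : Submodule F V := LinearMap.ker (B τ.y) ⊓ LinearMap.ker (B τ.f)

theorem mem_W {x : V} : x ∈ τ.W ↔ B τ.y x = 0 ∧ B τ.f x = 0 := Iff.rfl

theorem By (w : τ.W) : B τ.y (w : V) = 0 := w.2.1

theorem Bf (w : τ.W) : B τ.f (w : V) = 0 := w.2.2

theorem Bwy (w : τ.W) : B (w : V) τ.y = 0 := (Herm.eq_zero_comm τ.hB).1 (τ.By w)

theorem Bwf (w : τ.W) : B (w : V) τ.f = 0 := (Herm.eq_zero_comm τ.hB).1 (τ.Bf w)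

/-- The form on the complement. -/
def BW : τ.W →ₛₗ[θ] τ.W →ₗ[F] F := B.domRestrict₁₂ τ.W τ.W

theorem BW_apply (u v : τ.W) : τ.BW u v = B (u : V) (v : V) := rfl

/-- The projection onto the complement. -/
def pr : V →ₗ[F] τ.W :=
  (LinearMap.id - (B τ.f).smulRight τ.y - (B τ.y).smulRight τ.f).codRestrict τ.W fun x =>
    τ.mem_W.2 ⟨by simp [τ.hyy, τ.hyf], by simp [τ.hff, τ.hfy]⟩

theorem pr_coe (x : V) : (τ.pr x : V) = x - B τ.f x • τ.y - B τ.y x • τ.f := rfl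

theorem pr_W (w : τ.W) : τ.pr w = w := Subtype.ext (by simp [pr_coe, τ.By, τ.Bf])

theorem pr_y : τ.pr τ.y = 0 := Subtype.ext (by simp [pr_coe, τ.hyy, τ.hfy])

theorem pr_f : τ.pr τ.f = 0 := Subtype.ext (by simp [pr_coe, τ.hyf, τ.hff])

theorem decomp (x : V) : x = (τ.pr x : V) + B τ.f x • τ.y + B τ.y x • τ.f := by rw [pr_coe]; abel

theorem B_decomp (x z : V) :
    B x z = B (τ.pr x : V) (τ.pr z : V) + θ (B τ.f x) * B τ.y z + θ (B τ.y x) * B τ.f z := by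
  conv_lhs => rw [τ.decomp x, τ.decomp z]
  simp [τ.By, τ.Bf, τ.Bwy, τ.Bwf, τ.hyy, τ.hff, τ.hyf, τ.hfy]

theorem pr_B (w : τ.W) (x : V) : B (w : V) (τ.pr x : V) = B (w : V) x := by
  simp [pr_coe, τ.Bwy, τ.Bwf]

theorem hB_W : Herm.IsHerm τ.BW where
  toIsInvol := τ.hB.toIsInvol
  symm u v := τ.hB.symm _ _
  nondeg u hu := Subtype.ext (τ.hB.nondeg _ fun x => by rw [← τ.pr_B]; exact (τ.BW_apply u (τ.pr x)).symm.trans (hu _))

theorem finrank_W [FiniteDimensional F V] : finrank F τ.W + 2 = finrank F V := by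
  let e : V →ₗ[F] F × F := (B τ.f).prod (B τ.y)
  have hk : LinearMap.ker e = τ.W := by
    ext x
    simp [e, mem_W, Prod.ext_iff, and_comm]
  have hs : LinearMap.range e = ⊤ := LinearMap.range_eq_top.2 fun p =>
    ⟨p.1 • τ.y + p.2 • τ.f, by simp [e, τ.hfy, τ.hff, τ.hyy, τ.hyf]⟩
  have h := e.finrank_range_add_finrank_ker
  rw [hk, hs, finrank_top, Module.finrank_prod, Module.finrank_self] at h
  omega

theorem ext_frame {g h : V ≃ₗ[F] V} (e1 : g τ.y = h τ.y) (e2 : g τ.f = h τ.f)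
    (e3 : ∀ w : τ.W, g (w : V) = h (w : V)) : g = h :=
  LinearEquiv.ext fun x => by
    conv_lhs => rw [τ.decomp x]
    conv_rhs => rw [τ.decomp x]
    simp only [map_add, map_smul, e1, e2, e3]

/-- The extension of a map of the complement, scaling the pair. -/
def ext (a : Fˣ) (l : τ.W ≃ₗ[F] τ.W) : V ≃ₗ[F] V where
  toFun x := (l (τ.pr x) : V) + ((a : F) * B τ.f x) • τ.y + ((θ a)⁻¹ * B τ.y x) • τ.f
  map_add' x z := by simp [add_smul, mul_add]; abel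
  map_smul' c x := by simp [smul_smul, mul_left_comm]
  invFun x := (l.symm (τ.pr x) : V) + (((a⁻¹ : Fˣ) : F) * B τ.f x) • τ.y + (θ a * B τ.y x) • τ.f
  left_inv x := by
    conv_rhs => rw [τ.decomp x]
    have h0 : θ (a : F) ≠ 0 := (map_ne_zero θ).2 a.ne_zero
    simp [τ.pr_y, τ.pr_f, τ.pr_W, τ.By, τ.Bf, τ.hyy, τ.hff, τ.hyf, τ.hfy, h0]
  right_inv x := by
    conv_rhs => rw [τ.decomp x]
    have h0 : θ (a : F) ≠ 0 := (map_ne_zero θ).2 a.ne_zero
    simp [τ.pr_y, τ.pr_f, τ.pr_W, τ.By, τ.Bf, τ.hyy, τ.hff, τ.hyf, τ.hfy, h0]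

theorem ext_apply (a : Fˣ) (l : τ.W ≃ₗ[F] τ.W) (x : V) :
    τ.ext a l x = (l (τ.pr x) : V) + ((a : F) * B τ.f x) • τ.y + ((θ a)⁻¹ * B τ.y x) • τ.f := rfl

theorem ext_y (a : Fˣ) (l : τ.W ≃ₗ[F] τ.W) : τ.ext a l τ.y = (a : F) • τ.y := by
  simp [ext_apply, pr_y, τ.hfy, τ.hyy]

theorem ext_f (a : Fˣ) (l : τ.W ≃ₗ[F] τ.W) : τ.ext a l τ.f = (θ a)⁻¹ • τ.f := by
  simp [ext_apply, pr_f, τ.hff, τ.hyf]

theorem ext_W (a : Fˣ) (l : τ.W ≃ₗ[F] τ.W) (w : τ.W) : τ.ext a l (w : V) = (l w : V) := by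
  simp [ext_apply, pr_W, τ.By, τ.Bf]

theorem ext_mul (a b : Fˣ) (l l' : τ.W ≃ₗ[F] τ.W) : τ.ext a l * τ.ext b l' = τ.ext (a * b) (l * l') := by
  refine τ.ext_frame ?_ ?_ fun w => ?_
  · simp [LinearEquiv.mul_apply, ext_y, smul_smul, mul_comm]
  · simp [LinearEquiv.mul_apply, ext_f, smul_smul, map_mul, mul_comm]
  · simp [LinearEquiv.mul_apply, ext_W]

theorem ext_isometry (a : Fˣ) {l : τ.W ≃ₗ[F] τ.W} (hl : ∀ u v, τ.BW (l u) (l v) = τ.BW u v) (x z : V) :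
    B (τ.ext a l x) (τ.ext a l z) = B x z := by
  rw [τ.B_decomp x z, ← τ.BW_apply (τ.pr x) (τ.pr z), ← hl, τ.BW_apply]
  have h0 : θ (a : F) ≠ 0 := (map_ne_zero θ).2 a.ne_zero
  simp [ext_apply, τ.By, τ.Bf, τ.Bwy, τ.Bwf, τ.hyy, τ.hff, τ.hyf, τ.hfy, τ.hB.invol, map_inv₀]
  field_simp

theorem det_ext [FiniteDimensional F V] (a : Fˣ) (l : τ.W ≃ₗ[F] τ.W) :
    (LinearEquiv.det (τ.ext a l) : F) = a * (θ a)⁻¹ * LinearEquiv.det l := by
  let e : V ≃ₗ[F] τ.W × F × F :=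
    { toFun := fun x => (τ.pr x, B τ.f x, B τ.y x)
      map_add' := fun x z => by simp
      map_smul' := fun c x => by simp
      invFun := fun p => (p.1 : V) + p.2.1 • τ.y + p.2.2 • τ.f
      left_inv := fun x => (τ.decomp x).symm
      right_inv := fun p => by
        simp [τ.pr_y, τ.pr_f, τ.pr_W, τ.By, τ.Bf, τ.hyy, τ.hff, τ.hyf, τ.hfy] }
  let M : τ.W × F × F →ₗ[F] τ.W × F × F :=
    (l : τ.W →ₗ[F] τ.W).prodMap (((a : F) • LinearMap.id).prodMap ((θ a)⁻¹ • LinearMap.id))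
  have hM : (τ.ext a l : V →ₗ[F] V) = (e.symm : _ →ₗ[F] V) ∘ₗ M ∘ₗ (e.symm.symm : V →ₗ[F] _) :=
    LinearMap.ext fun x => rfl
  rw [LinearEquiv.coe_det, hM, LinearMap.det_conj, LinearEquiv.coe_det]
  simp only [M, LinearMap.det_prodMap, LinearMap.det_smul, LinearMap.det_id, Module.finrank_self]
  ring

/-- An isometry fixing the point and inducing the identity on the complement is unipotent. -/
theorem eq_eichler {g : V ≃ₗ[F] V} (hg : ∀ x z, B (g x) (g z) = B x z) (hy : g τ.y = τ.y)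
    (hW : ∀ w : τ.W, τ.pr (g (w : V)) = w) :
    B τ.f (g τ.f) + θ (B τ.f (g τ.f)) = -B (τ.pr (g τ.f) : V) (τ.pr (g τ.f) : V) ∧
      g = Herm.eichler τ.hB τ.hyy (τ.Bwy (τ.pr (g τ.f))) (B τ.f (g τ.f)) := by
  have hyf' : B τ.y (g τ.f) = 1 := by
    conv_lhs => rw [← hy]
    rw [hg, τ.hyf]
  have hyw : ∀ w : τ.W, B τ.y (g (w : V)) = 0 := fun w => by
    conv_lhs => rw [← hy]
    rw [hg, τ.By]
  have hwr : ∀ w : τ.W, B τ.f (g (w : V)) = -B (τ.pr (g τ.f) : V) (w : V) := fun w => by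
    have h := τ.B_decomp (g τ.f) (g (w : V))
    rw [hg, τ.Bf, hW, hyw, hyf', map_one, mul_zero, add_zero, one_mul] at h
    exact eq_neg_of_add_eq_zero_right h.symm
  refine ⟨?_, τ.ext_frame ?_ ?_ fun w => ?_⟩
  · have h := τ.B_decomp (g τ.f) (g τ.f)
    rw [hg, τ.hff, hyf', map_one, mul_one, one_mul] at h
    linear_combination -h
  · simp [hy, Herm.eichler_apply, τ.hyy, τ.Bwy]
  · conv_lhs => rw [τ.decomp (g τ.f), hyf']
    simp [Herm.eichler_apply, τ.hyf, τ.Bwf]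
    abel
  · conv_lhs => rw [τ.decomp (g w), hW, hwr, hyw]
    simp [Herm.eichler_apply, τ.By]

variable [Finite F] [FiniteDimensional F V]

/-- The unipotent element with vector part `u` and centre part `c`. -/
def sh (u : τ.W) (c : F) (hc : c + θ c = -B (u : V) (u : V)) : Herm.suG B :=
  ⟨Herm.eichler τ.hB τ.hyy (τ.Bwy u) c, Herm.eichler_mem τ.hB τ.hyy (τ.Bwy u) hc⟩

theorem sh_coe (u : τ.W) (c : F) (hc : c + θ c = -B (u : V) (u : V)) (x : V) :
    (τ.sh u c hc).1 x = x + B τ.y x • (u : V) + (c * B τ.y x - B (u : V) x) • τ.y := rfl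

theorem sh_y (u : τ.W) (c : F) (hc : c + θ c = -B (u : V) (u : V)) : (τ.sh u c hc).1 τ.y = τ.y := by
  simp [sh_coe, τ.hyy, τ.Bwy]

theorem sh_f (u : τ.W) (c : F) (hc : c + θ c = -B (u : V) (u : V)) :
    (τ.sh u c hc).1 τ.f = τ.f + (u : V) + c • τ.y := by
  simp [sh_coe, τ.hyf, τ.Bwf]

theorem sh_W (u : τ.W) (c : F) (hc : c + θ c = -B (u : V) (u : V)) (w : τ.W) :
    (τ.sh u c hc).1 (w : V) = (w : V) - B (u : V) (w : V) • τ.y := by
  simp [sh_coe, τ.By, sub_eq_add_neg]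

theorem sh_congr {u u' : τ.W} {c c' : F} {hc : c + θ c = -B (u : V) (u : V)}
    {hc' : c' + θ c' = -B (u' : V) (u' : V)} (hu : u = u') (h : c = c') : τ.sh u c hc = τ.sh u' c' hc' := by
  subst hu h; rfl

theorem sh_inj {u u' : τ.W} {c c' : F} {hc : c + θ c = -B (u : V) (u : V)}
    {hc' : c' + θ c' = -B (u' : V) (u' : V)} (h : τ.sh u c hc = τ.sh u' c' hc') : u = u' ∧ c = c' := by
  have e := congrArg (fun g : Herm.suG B => g.1 τ.f) h
  simp only [sh_f] at e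
  have e1 := congrArg τ.pr e
  simp only [map_add, map_smul, pr_f, pr_y, pr_W, smul_zero, add_zero, zero_add] at e1
  subst e1
  exact ⟨rfl, smul_left_injective F τ.y_ne (add_left_cancel e)⟩

theorem sum_zero {u u' : τ.W} {c c' : F} (hc : c + θ c = -B (u : V) (u : V))
    (hc' : c' + θ c' = -B (u' : V) (u' : V)) :
    c + c' - B (u : V) (u' : V) + θ (c + c' - B (u : V) (u' : V)) =
      -B ((u + u' : τ.W) : V) ((u + u' : τ.W) : V) := by
  simp [τ.hB.symm]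
  linear_combination hc + hc'

theorem sh_mul {u u' : τ.W} {c c' : F} (hc : c + θ c = -B (u : V) (u : V))
    (hc' : c' + θ c' = -B (u' : V) (u' : V)) :
    τ.sh u c hc * τ.sh u' c' hc' = τ.sh (u + u') (c + c' - B (u : V) (u' : V)) (τ.sum_zero hc hc') := by
  refine Subtype.ext (τ.ext_frame ?_ ?_ fun w => ?_)
  · simp [LinearEquiv.mul_apply, sh_y]
  · simp [LinearEquiv.mul_apply, sh_f, sh_W, sh_y, map_add]; module
  · simp [LinearEquiv.mul_apply, sh_W, sh_y, map_sub]; module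

theorem zero_cond : (0 : F) + θ 0 = -B ((0 : τ.W) : V) ((0 : τ.W) : V) := by simp

theorem skew_cond {c : F} (hc : c + θ c = 0) : c + θ c = -B ((0 : τ.W) : V) ((0 : τ.W) : V) := by simp [hc]

theorem sh_zero (h : (0 : F) + θ 0 = -B ((0 : τ.W) : V) ((0 : τ.W) : V)) : τ.sh 0 0 h = 1 :=
  Subtype.ext (LinearEquiv.ext fun x => by simp [sh_coe])

theorem inv_cond {u : τ.W} {c : F} (hc : c + θ c = -B (u : V) (u : V)) :
    θ c + θ (θ c) = -B ((-u : τ.W) : V) ((-u : τ.W) : V) := by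
  simp [τ.hB.invol]
  linear_combination hc

theorem sh_inv {u : τ.W} {c : F} (hc : c + θ c = -B (u : V) (u : V)) :
    (τ.sh u c hc)⁻¹ = τ.sh (-u) (θ c) (τ.inv_cond hc) :=
  inv_eq_of_mul_eq_one_right (by
    rw [τ.sh_mul]
    refine (τ.sh_congr (add_neg_cancel u) ?_).trans (τ.sh_zero τ.zero_cond)
    rw [Submodule.coe_neg, map_neg]
    linear_combination hc)

theorem det_eq_det {g : V ≃ₗ[F] V} (hg : ∀ x z, B (g x) (g z) = B x z) (hy : g τ.y = τ.y) {l : τ.W ≃ₗ[F] τ.W}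
    (hl : ∀ u v, τ.BW (l u) (l v) = τ.BW u v) (hW : ∀ w : τ.W, τ.pr (g (w : V)) = l w) :
    LinearEquiv.det g = LinearEquiv.det l := by
  set g0 := τ.ext 1 l.symm * g with hg0
  have hsym : ∀ u v, τ.BW (l.symm u) (l.symm v) = τ.BW u v := fun u v => by
    rw [← hl, LinearEquiv.apply_symm_apply, LinearEquiv.apply_symm_apply]
  obtain ⟨hc, he⟩ := τ.eq_eichler (g := g0) (fun x z => by
      simp only [hg0, LinearEquiv.mul_apply, τ.ext_isometry 1 hsym, hg])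
    (by simp [hg0, LinearEquiv.mul_apply, hy, τ.ext_y])
    (fun w => by
      rw [hg0, LinearEquiv.mul_apply, τ.ext_apply]
      simp [τ.pr_y, τ.pr_f, τ.pr_W, hW])
  have h1 : LinearEquiv.det g0 = 1 := by
    rw [he]; exact (Herm.eichler_mem τ.hB τ.hyy (τ.Bwy _) hc).2
  rw [hg0, map_mul] at h1
  have h2 : LinearEquiv.det (τ.ext 1 l.symm) = (LinearEquiv.det l)⁻¹ := by
    refine Units.ext ?_
    rw [τ.det_ext, Units.val_one, map_one, inv_one, one_mul, one_mul, LinearEquiv.det_symm, map_inv]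
  rwa [h2, inv_mul_eq_one, eq_comm] at h1

end Fr

end Cfsg.Agent.MinIndexForm.SU
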