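import Cfsg.Agent.MinIndexForm.SU.Root

/-!
Normalising the lift of a fixed-point-free element, and the two non-orthogonal transvection groups.
-/

set_option autoImplicit false

namespace Cfsg.Agent.MinIndexForm.SU

open Cfsg.Agent.Classical Module

universe uF uV
variable {F : Type uF} {V : Type uV} [Field F] [AddCommGroup V] [Module F V] {θ : F →+* F}
  {B : V →ₛₗ[θ] V →ₗ[F] F} [Finite F] [FiniteDimensional F V]

namespace Fr

variable (τ : Fr B) {K : Subgroup (Herm.suG B)}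

theorem normalise (hS : τ.Sb K = ⊥) (hI : τ.I1 K = ⊤) {h : Herm.suG τ.BW} (hfree : ∀ u : τ.W, h.1 u = u → u = 0) :
    ∃ (s : Herm.suG B) (c0 : skew θ), τ.Sb (conjS s K) = ⊥ ∧ τ.I1 (conjS s K) = ⊤ ∧
      τ.emb h * τ.tvc c0 ∈ conjS s K := by
  obtain ⟨u, c, hc, hm⟩ := τ.exists_lift (l := h) (hI ▸ Subgroup.mem_top _)
  have : Finite V := Module.finite_of_finite F
  have hh : ∀ z : τ.W, (h⁻¹).1 (h.1 z) = z := fun z => by
    rw [← LinearEquiv.mul_apply, ← Subgroup.coe_mul, inv_mul_cancel]; rfl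
  have hinj : Function.Injective fun x : τ.W => (h⁻¹).1 x - x := fun x x' e => sub_eq_zero.1 (by
    refine hfree (x - x') ?_
    have e2 : (h⁻¹).1 (x - x') = x - x' := by
      rw [map_sub]
      exact sub_eq_sub_iff_sub_eq_sub.1 e
    conv_lhs => rw [← e2]
    rw [← LinearEquiv.mul_apply, ← Subgroup.coe_mul, mul_inv_cancel]
    rfl)
  obtain ⟨x, hx⟩ := (Finite.injective_iff_surjective.1 hinj) (-u)
  obtain ⟨d, hd⟩ := τ.exists_vec x
  set s := τ.sh x d hd with hs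
  have hnorm : B ((h⁻¹).1 x : V) ((h⁻¹).1 x : V) = B (x : V) (x : V) := (h⁻¹).2.1 x x
  have hd' : d + θ d = -B ((h⁻¹).1 x : V) ((h⁻¹).1 x : V) := by rw [hnorm]; exact hd
  obtain ⟨hd'', e⟩ := τ.emb_sh h ((h⁻¹).1 x) d hd'
  have hxx : h.1 ((h⁻¹).1 x) = x := by
    rw [← LinearEquiv.mul_apply, ← Subgroup.coe_mul, mul_inv_cancel]; rfl
  have hk : s * (τ.emb h * τ.sh u c hc) * s⁻¹ ∈ conjS s K := by
    rw [mem_conjS]; simpa [mul_assoc] using hm
  rw [← mul_assoc, hs, ← τ.sh_congr (hc := hd'') hxx rfl, ← e, τ.sh_congr (hc' := hd) hxx rfl, τ.sh_inv,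
    mul_assoc (τ.emb h), τ.sh_mul, mul_assoc, τ.sh_mul] at hk
  have hzero : (h⁻¹).1 x + u + -x = 0 := by
    have hx' : (h⁻¹).1 x - x = -u := hx
    rw [← sub_eq_add_neg, add_sub_right_comm, hx', neg_add_cancel]
  set cc := d + c - B ((h⁻¹).1 x : V) (u : V) + θ d - B (((h⁻¹).1 x + u : τ.W) : V) ((-x : τ.W) : V) with hcc
  have hccs : cc ∈ skew θ := by
    have h1 := τ.sum_zero (τ.sum_zero hd' hc) (τ.inv_cond hd)
    rw [hzero] at h1
    rw [mem_skew, hcc]
    simpa using h1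
  refine ⟨s, ⟨cc, hccs⟩, ?_, ?_, ?_⟩
  · rw [AddSubgroup.eq_bot_iff_forall]
    rintro v ⟨e1, he1, hv⟩
    rw [mem_conjS] at hv
    obtain ⟨c', hc', e', -⟩ := τ.conj_sh (g := s⁻¹) (a := 1) (by
      have : (s⁻¹).1 τ.y = τ.y := τ.P1.inv_mem (τ.sh_y x d hd)
      simpa using this) v e1 he1
    rw [inv_inv] at e'
    rw [e'] at hv
    have hv' : θ ((1 : Fˣ) : F) • τ.pr ((s⁻¹).1 (v : V)) ∈ τ.Sb K := ⟨c', hc', hv⟩
    rw [hs, τ.sh_inv, τ.sh_W, map_sub, map_smul, τ.pr_y, smul_zero, sub_zero, τ.pr_W, Units.val_one, map_one,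
      one_smul, hS, AddSubgroup.mem_bot] at hv'
    exact hv'
  · rw [eq_top_iff]
    intro l _
    obtain ⟨g, hg, hl⟩ := (τ.mem_I1 K).1 (hI ▸ Subgroup.mem_top l)
    refine (τ.mem_I1 _).2 ⟨⟨s, τ.sh_mem_P1 x d hd⟩ * g * ⟨s, τ.sh_mem_P1 x d hd⟩⁻¹, ?_, ?_⟩
    · rw [mem_conjS]
      simpa [mul_assoc] using hg
    · rw [map_mul, map_mul, map_inv, τ.lam_sh, hl]; simp
  · convert hk using 2
    exact τ.sh_congr hzero.symm rfl

end Fr

theorem prod_alt (μ : F) (hμ : μ ≠ 0) : ∀ k, ∏ i ∈ Finset.range (2 * k + 1), (if Even i then μ else μ⁻¹) = μ := by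
  intro k
  induction k with
  | zero => simp
  | succ k ih =>
    rw [show 2 * (k + 1) + 1 = 2 * k + 1 + 1 + 1 by ring, Finset.prod_range_succ, Finset.prod_range_succ, ih,
      if_neg (by simp [Nat.even_add_one]), if_pos (by simp [Nat.even_add_one]), mul_inv_cancel₀ hμ, one_mul]

theorem prod_omega (μ : F) (hμ : μ ^ 3 = 1) :
    ∀ k, ∏ i ∈ Finset.range (2 * k + 3), (if i < 3 then μ else if Even i then μ⁻¹ else μ) = 1 := by
  intro k
  induction k with
  | zero =>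
    rw [Finset.prod_range_succ, Finset.prod_range_succ, Finset.prod_range_succ, Finset.prod_range_zero]
    simp only [show (0 : ℕ) < 3 by norm_num, show (1 : ℕ) < 3 by norm_num, show (2 : ℕ) < 3 by norm_num, if_true]
    linear_combination hμ
  | succ k ih =>
    have h0 : μ ≠ 0 := fun h => by simp [h] at hμ
    rw [show 2 * (k + 1) + 3 = 2 * k + 3 + 1 + 1 by ring, Finset.prod_range_succ, Finset.prod_range_succ, ih,
      if_neg (by omega), if_neg (by simp [Nat.even_add_one, Nat.even_add]), if_neg (by omega),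
      if_pos (by simp [Nat.even_add_one, Nat.even_add]), one_mul, mul_inv_cancel₀ h0]

/-- Two non-orthogonal transvection groups. -/
theorem exists_root_pair (τ : Fr B) {K : Subgroup (Herm.suG B)} (hS : τ.Sb K = ⊥) (hI : τ.I1 K = ⊤) (k : ℕ)
    (hk : 1 ≤ k) (hd : finrank F τ.W = 2 * k + 1) :
    ∃ a b : V, B a a = 0 ∧ B b b = 0 ∧ B a b ≠ 0 ∧ HasRoot K a ∧ HasRoot K b := by
  have hθ := τ.hB.toIsInvol
  obtain ⟨b, hb2, hbr, hbN⟩ := exists_generic hθ
  set q := Nat.card (Herm.fixField θ) with hq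
  set μ := θ (b : F) / b with hμ
  have hμn : μ * θ μ = 1 := quot_norm hθ
  have hμ0 : μ ≠ 0 := left_ne_zero_of_mul_eq_one hμn
  suffices ∃ (h : Herm.suG τ.BW) (v w : τ.W), τ.BW v v = 0 ∧ τ.BW w w = 0 ∧ τ.BW v w ≠ 0 ∧
      (∀ u : τ.W, h.1 u = u → u = 0) ∧ ∀ (K' : Subgroup (Herm.suG B)) (c0 : skew θ), τ.Sb K' = ⊥ →
        τ.I1 K' = ⊤ → τ.emb h * τ.tvc c0 ∈ K' → HasRoot K' (v : V) ∧ HasRoot K' (w : V) by
    obtain ⟨h, v, w, hv, hw, hvw, hfree, hroot⟩ := this
    obtain ⟨s, c0, hS', hI', hm⟩ := τ.normalise hS hI hfree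
    obtain ⟨h1, h2⟩ := hroot _ c0 hS' hI' hm
    refine ⟨_, _, ?_, ?_, ?_, hasRoot_of_conjS h1, hasRoot_of_conjS h2⟩
    · rw [(s⁻¹).2.1]; exact hv
    · rw [(s⁻¹).2.1]; exact hw
    · rw [(s⁻¹).2.1]; exact hvw
  by_cases hq3 : 3 ≤ q
  · -- a torus element with generic eigenvalues
    obtain ⟨e, he, he0⟩ := Herm.exists_isotropic τ.hB_W (by omega)
    obtain ⟨ρ, hρ⟩ := exists_frame τ.hB_W he he0
    have hd2 : finrank F ρ.W = 2 * (k - 1) + 1 := by have := ρ.finrank_W; omega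
    let δ : Fin (2 * (k - 1) + 1) → F := fun i => if Even i.1 then μ else μ⁻¹
    have hδn : ∀ i, δ i * θ (δ i) = 1 := fun i => by
      simp only [δ]
      split_ifs
      · exact hμn
      · rw [map_inv₀, ← mul_inv, hμn, inv_one]
    obtain ⟨bas, g, -, hg, hgb, hdet⟩ := exists_diag ρ.hB_W hd2 δ hδn
    have hdet' : (LinearEquiv.det g : F) = μ := by
      rw [hdet, Fin.prod_univ_eq_prod_range (fun i => if Even i then μ else μ⁻¹), prod_alt μ hμ0]
    have hm : ρ.ext b g ∈ Herm.suG τ.BW := ⟨ρ.ext_isometry b hg, Units.ext (by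
      rw [ρ.det_ext, hdet', Units.val_one, hμ]
      have h0 : θ (b : F) ≠ 0 := (map_ne_zero θ).2 b.ne_zero
      field_simp)⟩
    have hpow : ∀ n : ℕ, (ρ.ext b g) ^ n = ρ.ext (b ^ n) (g ^ n) := by
      intro n
      induction n with
      | zero => exact ρ.ext_frame (by simp [ρ.ext_y]) (by simp [ρ.ext_f]) fun w => by simp [ρ.ext_W]
      | succ n ih => rw [pow_succ, ih, ρ.ext_mul, pow_succ, pow_succ]
    have hbq : b ^ (q - 1) ≠ 1 := fun e => hbr (fix_of_pow hθ e)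
    have hδq : ∀ i, δ i ^ (q - 1) ≠ 1 := fun i e => by
      have e' : μ ^ (q - 1) = 1 := by
        simp only [δ] at e
        split_ifs at e
        · exact e
        · rwa [inv_pow, inv_eq_one] at e
      have h1 : θ μ = μ := fix_of_pow (a := Units.mk0 μ hμ0) hθ (Units.ext e')
      exact hb2 (by rw [pow_two]; conv_lhs => arg 2; rw [← h1]
                    exact hμn)
    have hfree : ∀ u : τ.W, ((ρ.ext b g) ^ (q - 1)) u = u → u = 0 := fun u hu => by
      rw [hpow, ρ.ext_apply] at hu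
      have e1 := congrArg ρ.pr hu
      have e2 := congrArg (τ.BW ρ.f) hu
      have e3 := congrArg (τ.BW ρ.y) hu
      simp [ρ.pr_W, ρ.pr_y, ρ.pr_f] at e1
      simp [ρ.Bf, ρ.By, ρ.hff, ρ.hfy, ρ.hyy, ρ.hyf] at e2 e3
      have z1 : ρ.pr u = 0 := fixfree_diag bas (g := ((g ^ (q - 1) : ρ.W ≃ₗ[F] ρ.W) : ρ.W →ₗ[F] ρ.W))
        (δ := fun i => δ i ^ (q - 1)) (fun i => pow_apply_eig (hgb i) _) hδq e1
      have z2 : τ.BW ρ.f u = 0 := by
        have h2 : ((b : F) ^ (q - 1) - 1) * τ.BW ρ.f u = 0 := by linear_combination e2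
        exact (mul_eq_zero.1 h2).resolve_left (sub_ne_zero.2 fun e => hbq (Units.ext e))
      have z3 : τ.BW ρ.y u = 0 := by
        have h2 : ((θ (b : F) ^ (q - 1))⁻¹ - 1) * τ.BW ρ.y u = 0 := by linear_combination e3
        refine (mul_eq_zero.1 h2).resolve_left (sub_ne_zero.2 fun e => hbq (Units.ext ?_))
        rw [inv_eq_one, ← map_pow, ← map_one θ] at e
        rw [Units.val_pow_eq_pow_val, Units.val_one]
        exact θ.injective e
      rw [ρ.decomp u, z1, z2, z3]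
      simp
    refine ⟨⟨_, hm⟩, ρ.y, ρ.f, ρ.hyy, ρ.hff, by rw [ρ.hyf]; exact one_ne_zero, fun u hu => hfree u ?_, ?_⟩
    · have hu' : ρ.ext b g u = u := hu
      clear hfree hpow
      induction (q - 1) with
      | zero => simp
      | succ n ih => rw [pow_succ, LinearEquiv.mul_apply, hu', ih]
    · intro K' c0 hS' hI' hm'
      refine ⟨τ.root_of_eig hS' hI' hm' hfree ρ.hyy (b := (b : F)) (ρ.ext_y b g) (hbN hq3) b.ne_zero,
        τ.root_of_eig hS' hI' hm' hfree ρ.hff (b := (θ (b : F))⁻¹) (ρ.ext_f b g) (fun e => hbN hq3 ?_)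
          (inv_ne_zero ((map_ne_zero θ).2 b.ne_zero))⟩
      rw [map_inv₀, hθ.invol, ← mul_inv, inv_eq_one, mul_comm] at e
      exact e
  -- two scalars
  have hq2 : q = 2 := by have := two_le_fix hθ; omega
  have h2F : (2 : F) = 0 := by
    have : Fintype (Herm.fixField θ) := Fintype.ofFinite _
    have h := FiniteField.cast_card_eq_zero (Herm.fixField θ)
    rw [← Nat.card_eq_fintype_card, ← hq, hq2] at h
    have h' : (2 : Herm.fixField θ) = 0 := by exact_mod_cast h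
    have h'' := congrArg (Herm.fixField θ).subtype h'
    rwa [map_ofNat, map_zero] at h''
  have hμ3 : μ ^ 3 = 1 := by
    have hk : (Units.mk0 μ hμ0 : Fˣ) ∈ (Herm.normHom θ).ker := Units.ext (by
      rw [Herm.normHom_coe]; exact hμn)
    have h3 : (⟨_, hk⟩ : (Herm.normHom θ).ker) ^ Nat.card (Herm.normHom θ).ker = 1 := pow_card_eq_one'
    rw [Herm.card_ker_normHom hθ, ← hq, hq2] at h3
    exact congrArg (fun z : (Herm.normHom θ).ker => ((z : Fˣ) : F)) h3
  let δ : Fin (2 * (k - 1) + 3) → F := fun i => if i.1 < 3 then μ else if Even i.1 then μ⁻¹ else μ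
  have hδn : ∀ i, δ i * θ (δ i) = 1 := fun i => by
    simp only [δ]
    split_ifs
    · exact hμn
    · rw [map_inv₀, ← mul_inv, hμn, inv_one]
    · exact hμn
  obtain ⟨bas, g, hON, hg, hgb, hdet⟩ := exists_diag τ.hB_W (n := 2 * (k - 1) + 3) (by omega) δ hδn
  have hm : g ∈ Herm.suG τ.BW := ⟨hg, Units.ext (by
    rw [hdet, Fin.prod_univ_eq_prod_range (fun i => if i < 3 then μ else if Even i then μ⁻¹ else μ),
      prod_omega μ hμ3, Units.val_one])⟩
  have hμ1 : μ ≠ 1 := fun e => hb2 (by rw [e, one_pow])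
  have hfree : ∀ u : τ.W, g u = u → u = 0 := fun u hu => fixfree_diag bas (g := (g : τ.W →ₗ[F] τ.W)) hgb
    (fun i e => hμ1 (by
      simp only [δ] at e
      split_ifs at e
      · exact e
      · rwa [inv_eq_one] at e
      · exact e)) hu
  let e0 : Fin (2 * (k - 1) + 3) := ⟨0, by omega⟩
  let e1 : Fin (2 * (k - 1) + 3) := ⟨1, by omega⟩
  let e2 : Fin (2 * (k - 1) + 3) := ⟨2, by omega⟩
  have hB : ∀ i j, τ.BW (bas i) (bas j) = if i = j then 1 else 0 := hON
  have n01 : e0 ≠ e1 := by simp [e0, e1]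
  have n02 : e0 ≠ e2 := by simp [e0, e2]
  have n12 : e1 ≠ e2 := by simp [e1, e2]
  have hge : ∀ i : Fin (2 * (k - 1) + 3), i.1 < 3 → g (bas i) = μ • bas i := fun i hi => by
    rw [hgb]; simp only [δ, if_pos hi]
  have h11 : (1 : F) + 1 = 0 := by linear_combination h2F
  have hiso : ∀ i j, i ≠ j → τ.BW (bas i + bas j) (bas i + bas j) = 0 := fun i j hij => by
    simp [map_add, hB, hij, Ne.symm hij, h11]
  have hgadd : ∀ i j : Fin (2 * (k - 1) + 3), i.1 < 3 → j.1 < 3 → g (bas i + bas j) = μ • (bas i + bas j) :=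
    fun i j hi hj => by rw [map_add, hge i hi, hge j hj, smul_add]
  refine ⟨⟨g, hm⟩, bas e0 + bas e1, bas e0 + bas e2, hiso _ _ n01, hiso _ _ n02, ?_, hfree, ?_⟩
  · simp [map_add, hB, n01, n02, n12, Ne.symm n01]
  · intro K' c0 hS' hI' hm'
    refine ⟨τ.root_of_commutator hS' hI' hm' hfree hμn (hgadd _ _ (by simp [e0]) (by simp [e1]))
        (hge e2 (by simp [e2])) (hiso _ _ n01) ?_ (by simp [hB]),
      τ.root_of_commutator hS' hI' hm' hfree hμn (hgadd _ _ (by simp [e0]) (by simp [e2]))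
        (hge e1 (by simp [e1])) (hiso _ _ n02) ?_ (by simp [hB])⟩
    · simp [map_add, hB, Ne.symm n02, Ne.symm n12]
    · simp [map_add, hB, Ne.symm n01, n12]

end Cfsg.Agent.MinIndexForm.SU
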