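import Cfsg.Agent.MinIndexForm.SU.Scalars
import Cfsg.Agent.MinIndexForm.SU.Classes

/-!
Additive subgroups of a three-dimensional Hermitian space with real or vanishing products, and the index of their
stabilisers.
-/

set_option autoImplicit false

namespace Cfsg.Agent.MinIndexForm.SU

open Cfsg.Agent.Classical Module

universe uF uV
variable {F : Type uF} {V : Type uV} [Field F] [AddCommGroup V] [Module F V] {θ : F →+* F}
  {B : V →ₛₗ[θ] V →ₗ[F] F} [Finite F] [FiniteDimensional F V] (hd : finrank F V = 3)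

section Line

include hd

theorem finrank_line (τ : Fr B) : finrank F τ.W = 1 := by have := τ.finrank_W; omega

theorem exists_line (τ : Fr B) : ∃ e : τ.W, B (e : V) (e : V) = 1 ∧ ∀ w : τ.W, w = B (e : V) (w : V) • e := by
  obtain ⟨e, he⟩ := exists_unit τ.hB_W (by rw [finrank_line hd τ]; norm_num)
  refine ⟨e, he, fun w => ?_⟩
  obtain ⟨c, hc⟩ := exists_smul_eq_of_finrank_eq_one (finrank_line hd τ)
    (fun h0 : e = 0 => by simp [h0] at he) w
  rw [← hc, Submodule.coe_smul, map_smul, smul_eq_mul, show B (e : V) (e : V) = 1 from he, mul_one]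

theorem aniso_line (τ : Fr B) {w : τ.W} (hw : w ≠ 0) : B (w : V) (w : V) ≠ 0 := by
  obtain ⟨e, he, hw'⟩ := exists_line hd τ
  intro h0
  refine hw ?_
  rw [hw' w] at h0 ⊢
  rw [Submodule.coe_smul, Herm.smul_self τ.hB, he, mul_one] at h0
  rcases mul_eq_zero.1 h0 with h | h
  · rw [h, zero_smul]
  · rw [(map_eq_zero θ).1 h, zero_smul]

/-- An isotropic vector orthogonal to an isotropic one is a multiple of it. -/
theorem perp_iso (τ : Fr B) {w : V} (hw : B w w = 0) (hp : B τ.y w = 0) : ∃ z : F, w = z • τ.y := by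
  refine ⟨B τ.f w, ?_⟩
  have h := τ.B_decomp w w
  rw [hw, hp, map_zero, mul_zero, zero_mul, add_zero, add_zero] at h
  have h0 : τ.pr w = 0 := by
    by_contra h0
    exact aniso_line hd τ h0 h.symm
  conv_lhs => rw [τ.decomp w, h0, hp]
  simp

end Line

variable (L : AddSubgroup V)

include hd in
/-- A totally isotropic additive subgroup has at most as many elements as a line. -/
theorem card_le_of_iso (h : Herm.IsHerm B) (hiso : ∀ x ∈ L, B x x = 0) :
    Nat.card L ≤ Nat.card (Herm.fixField θ) ^ 2 := by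
  have hF := Herm.card_eq_fix_sq h.toIsInvol
  have : Finite V := Module.finite_of_finite F
  have hskew : ∀ x ∈ L, ∀ z ∈ L, B x z + θ (B x z) = 0 := fun x hx z hz => by
    have e := hiso _ (L.add_mem hx hz)
    simp [hiso x hx, hiso z hz] at e
    rw [h.symm]
    linear_combination e
  by_cases hperp : ∀ x ∈ L, ∀ z ∈ L, B x z = 0
  · by_cases h0 : L = ⊥
    · rw [h0, AddSubgroup.card_bot, ← hF]
      exact Nat.card_pos
    obtain ⟨v, hv, hv0⟩ : ∃ v ∈ L, v ≠ 0 := by
      by_contra hc; push Not at hc; exact h0 ((AddSubgroup.eq_bot_iff_forall _).2 hc)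
    obtain ⟨τ, rfl⟩ := exists_frame h hv0 (hiso v hv)
    rw [← hF]
    refine Nat.card_le_card_of_injective (fun x : L => B τ.f (x : V)) fun x z e => Subtype.ext ?_
    obtain ⟨a, ha⟩ := perp_iso hd τ (hiso _ x.2) (hperp _ hv _ x.2)
    obtain ⟨b, hb⟩ := perp_iso hd τ (hiso _ z.2) (hperp _ hv _ z.2)
    simp [ha, hb, τ.hfy] at e
    rw [ha, hb, e]
  · push Not at hperp
    obtain ⟨u, hu, u', hu', huu⟩ := hperp
    set δ := B u u' with hδ
    have hu0 : u ≠ 0 := fun h0 => huu (by rw [hδ, h0, map_zero, LinearMap.zero_apply])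
    let τ : Fr B := ⟨h, u, δ⁻¹ • u', hiso u hu, by rw [Herm.smul_self h, hiso u' hu', mul_zero],
      by rw [map_smul, smul_eq_mul, inv_mul_cancel₀ huu]⟩
    have hδ' : θ δ = -δ := eq_neg_of_add_eq_zero_right (hskew u hu u' hu')
    have hx : ∀ x : L, θ (B τ.y (x : V) / δ) = B τ.y (x : V) / δ ∧ θ (B τ.f (x : V)) = B τ.f (x : V) := fun x => by
      have h1 := eq_neg_of_add_eq_zero_right (hskew u hu _ x.2)
      have h2 := eq_neg_of_add_eq_zero_right (hskew u' hu' _ x.2)
      refine ⟨by rw [map_div₀, hδ', h1, neg_div_neg_eq], ?_⟩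
      show θ (B (δ⁻¹ • u') (x : V)) = _
      rw [map_smulₛₗ, LinearMap.smul_apply, smul_eq_mul, map_mul, h.invol, h2, map_inv₀, hδ', inv_neg]
      ring
    have hr : ∀ x : L, τ.pr (x : V) = 0 := fun x => by
      by_contra h0
      refine aniso_line hd τ h0 ?_
      have e := τ.B_decomp (x : V) (x : V)
      rw [hiso _ x.2] at e
      obtain ⟨e1, e2⟩ := hx x
      rw [map_div₀, hδ', div_neg, neg_eq_iff_eq_neg, ← neg_div] at e1
      rw [e2, show θ (B τ.y (x : V)) = -B τ.y (x : V) from by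
        have := (div_left_inj' huu).1 e1; linear_combination this] at e
      linear_combination -e
    rw [pow_two, ← Nat.card_prod]
    refine Nat.card_le_card_of_injective (fun x : L => ((⟨_, (hx x).1⟩ : Herm.fixField θ),
      (⟨_, (hx x).2⟩ : Herm.fixField θ))) fun x z e => Subtype.ext ?_
    simp only [Prod.mk.injEq] at e
    have e1 : B τ.y (x : V) / δ = B τ.y (z : V) / δ := congrArg Subtype.val e.1
    have e2 : B τ.f (x : V) = B τ.f (z : V) := congrArg Subtype.val e.2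
    rw [τ.decomp (x : V), τ.decomp (z : V), hr x, hr z, e2, (div_left_inj' huu).1 e1]

/-- The real multiples. -/
def realSpan (θ : F →+* F) (L : AddSubgroup V) : AddSubgroup V :=
  AddSubgroup.closure {x | ∃ r : F, θ r = r ∧ ∃ y ∈ L, x = r • y}

omit [Finite F] [FiniteDimensional F V] in
theorem le_realSpan : L ≤ realSpan θ L := fun x hx =>
  AddSubgroup.subset_closure ⟨1, map_one θ, x, hx, (one_smul F x).symm⟩

omit [Finite F] [FiniteDimensional F V] in
theorem realSpan_smul {r : F} (hr : θ r = r) {x : V} (hx : x ∈ realSpan θ L) : r • x ∈ realSpan θ L := by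
  induction hx using AddSubgroup.closure_induction with
  | mem x h =>
    obtain ⟨s, hs, y, hy, rfl⟩ := h
    exact AddSubgroup.subset_closure ⟨r * s, by rw [map_mul, hr, hs], y, hy, smul_smul r s y⟩
  | zero => rw [smul_zero]; exact zero_mem _
  | add x y _ _ hx hy => rw [smul_add]; exact add_mem hx hy
  | neg x _ hx => rw [smul_neg]; exact neg_mem hx

omit [Finite F] [FiniteDimensional F V] in
theorem realSpan_real (hreal : ∀ x ∈ L, ∀ z ∈ L, θ (B x z) = B x z) {x z : V} (hx : x ∈ realSpan θ L)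
    (hz : z ∈ realSpan θ L) : θ (B x z) = B x z := by
  induction hx using AddSubgroup.closure_induction with
  | mem x h =>
    obtain ⟨r, hr, y, hy, rfl⟩ := h
    induction hz using AddSubgroup.closure_induction with
    | mem z h =>
      obtain ⟨s, hs, w, hw, rfl⟩ := h
      simp [hr, hs, hreal y hy w hw]
    | zero => simp
    | add a b _ _ ha hb => rw [map_add, map_add, ha, hb]
    | neg a _ ha => rw [map_neg, map_neg, ha]
  | zero => simp
  | add a b _ _ ha hb => rw [map_add, LinearMap.add_apply, map_add, ha, hb]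
  | neg a _ ha => rw [map_neg, LinearMap.neg_apply, map_neg, ha]

omit [Finite F] [FiniteDimensional F V] in
theorem realSpan_inv {g : Herm.suG B} (hg : ∀ x ∈ L, g.1 x ∈ L) {x : V} (hx : x ∈ realSpan θ L) :
    g.1 x ∈ realSpan θ L := by
  induction hx using AddSubgroup.closure_induction with
  | mem x h =>
    obtain ⟨r, hr, y, hy, rfl⟩ := h
    exact AddSubgroup.subset_closure ⟨r, hr, g.1 y, hg y hy, map_smul g.1 r y⟩
  | zero => rw [map_zero]; exact zero_mem _
  | add a b _ _ ha hb => rw [map_add]; exact add_mem ha hb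
  | neg a _ ha => rw [map_neg]; exact neg_mem ha

section Real

variable (hreal : ∀ x ∈ L, ∀ z ∈ L, θ (B x z) = B x z) (hsmul : ∀ r : F, θ r = r → ∀ x ∈ L, r • x ∈ L)
include hd hreal hsmul

theorem card_pr_le (τ : Fr B) (R : Set τ.W) (hR : ∀ a ∈ R, ∀ b ∈ R, θ (B (a : V) (b : V)) = B (a : V) (b : V)) :
    Nat.card R ≤ Nat.card (Herm.fixField θ) := by
  by_cases h0 : ∀ a ∈ R, a = 0
  · have : Subsingleton R := ⟨fun a b => Subtype.ext ((h0 _ a.2).trans (h0 _ b.2).symm)⟩
    exact (Finite.card_le_one_iff_subsingleton.2 this).trans Nat.card_pos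
  push Not at h0
  obtain ⟨a0, ha0, ha00⟩ := h0
  refine Nat.card_le_card_of_injective (fun b : R => (⟨B (a0 : V) (b.1 : V), hR _ ha0 _ b.2⟩ : Herm.fixField θ))
    fun b c e => Subtype.ext ?_
  obtain ⟨e', -, hw⟩ := exists_line hd τ
  have h1 : B (a0 : V) (b.1 : V) = B (a0 : V) (c.1 : V) := congrArg Subtype.val e
  set x := B (e' : V) (a0 : V) with hx
  have hx0 : x ≠ 0 := fun h => ha00 (by rw [hw a0, ← hx, h, zero_smul])
  rw [hw b.1, hw c.1]
  congr 1
  rw [hw b.1, hw c.1, Submodule.coe_smul, Submodule.coe_smul, map_smul, map_smul, smul_eq_mul, smul_eq_mul] at h1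
  refine mul_right_cancel₀ ?_ h1
  rw [hw a0, ← hx, Submodule.coe_smul, map_smulₛₗ, LinearMap.smul_apply, smul_eq_mul]
  have he : B (e' : V) (e' : V) ≠ 0 := aniso_line hd τ fun h => ha00 (by rw [hw a0, h, smul_zero])
  exact mul_ne_zero ((map_ne_zero θ).2 hx0) he

/-- Coordinates of the isotropic vectors along a hyperbolic pair of the subgroup. -/
theorem card_iso_le (τ : Fr B) (hy : τ.y ∈ L) (hf : τ.f ∈ L) :
    Nat.card {x : V // x ∈ L ∧ B x x = 0} ≤ Nat.card (Herm.fixField θ) ^ 2 ∧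
      Nat.card {x : V // x ∈ L ∧ B x x = 0 ∧ B τ.y x = 1} ≤ Nat.card (Herm.fixField θ) := by
  classical
  have : Finite V := Module.finite_of_finite F
  have hpr : ∀ x ∈ L, (τ.pr x : V) ∈ L := fun x hx => by
    rw [τ.pr_coe]
    exact L.sub_mem (L.sub_mem hx (hsmul _ (hreal _ hf _ hx) _ hy)) (hsmul _ (hreal _ hy _ hx) _ hf)
  have hR : Nat.card {a : τ.W | (a : V) ∈ L} ≤ Nat.card (Herm.fixField θ) :=
    card_pr_le hd L hreal hsmul τ _ fun a ha b hb => hreal _ ha _ hb
  have hq : ∀ x ∈ L, B x x = 0 →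
      B (τ.pr x : V) (τ.pr x : V) + 2 * B τ.y x * B τ.f x = 0 := fun x hx h0 => by
    have e := τ.B_decomp x x
    rw [h0, hreal _ hy _ hx, hreal _ hf _ hx] at e
    linear_combination -e
  by_cases h2 : (2 : F) = 0
  · have hr : ∀ x : {x : V // x ∈ L ∧ B x x = 0}, τ.pr x.1 = 0 := fun x => by
      by_contra h0
      refine aniso_line hd τ h0 ?_
      linear_combination hq x.1 x.2.1 x.2.2 - B τ.y x.1 * B τ.f x.1 * h2
    constructor
    · rw [pow_two, ← Nat.card_prod]
      refine Nat.card_le_card_of_injective (fun x : {x : V // x ∈ L ∧ B x x = 0} =>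
        ((⟨_, hreal _ hy _ x.2.1⟩ : Herm.fixField θ), (⟨_, hreal _ hf _ x.2.1⟩ : Herm.fixField θ)))
        fun x z e => Subtype.ext ?_
      simp only [Prod.mk.injEq] at e
      have e1 : B τ.y x.1 = B τ.y z.1 := congrArg Subtype.val e.1
      have e2 : B τ.f x.1 = B τ.f z.1 := congrArg Subtype.val e.2
      rw [τ.decomp x.1, τ.decomp z.1, hr x, hr z, e1, e2]
    · refine Nat.card_le_card_of_injective (fun x : {x : V // x ∈ L ∧ B x x = 0 ∧ B τ.y x = 1} =>
        (⟨_, hreal _ hf _ x.2.1⟩ : Herm.fixField θ)) fun x z e => Subtype.ext ?_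
      have e2 : B τ.f x.1 = B τ.f z.1 := congrArg Subtype.val e
      rw [τ.decomp x.1, τ.decomp z.1, hr ⟨x.1, x.2.1, x.2.2.1⟩, hr ⟨z.1, z.2.1, z.2.2.1⟩, x.2.2.2, z.2.2.2, e2]
  · constructor
    · -- the first coordinate determines the second unless it vanishes
      let Z := {x : {x : V // x ∈ L ∧ B x x = 0} // B τ.y x.1 = 0}
      let N := {x : {x : V // x ∈ L ∧ B x x = 0} // B τ.y x.1 ≠ 0}
      have hZ : Nat.card Z ≤ Nat.card (Herm.fixField θ) := by
        refine Nat.card_le_card_of_injective (fun x : Z => (⟨_, hreal _ hf _ x.1.2.1⟩ : Herm.fixField θ))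
          fun x z e => Subtype.ext (Subtype.ext ?_)
        have e2 : B τ.f x.1.1 = B τ.f z.1.1 := congrArg Subtype.val e
        have hpz : ∀ x : Z, τ.pr x.1.1 = 0 := fun x => by
          by_contra h0
          refine aniso_line hd τ h0 ?_
          have := hq _ x.1.2.1 x.1.2.2
          rwa [x.2, mul_zero, zero_mul, add_zero] at this
        rw [τ.decomp x.1.1, τ.decomp z.1.1, hpz x, hpz z, x.2, z.2, e2]
      have hN : Nat.card N ≤
          (Nat.card (Herm.fixField θ) - 1) * Nat.card (Herm.fixField θ) := by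
        rw [← Nat.card_units]
        refine le_trans (Nat.card_le_card_of_injective (β := (Herm.fixField θ)ˣ × {a : τ.W | (a : V) ∈ L})
          (fun x : N => (Units.mk0 (⟨_, hreal _ hy _ x.1.2.1⟩ : Herm.fixField θ)
            (fun h => x.2 (congrArg Subtype.val h)), ⟨τ.pr x.1.1, hpr _ x.1.2.1⟩))
          fun x z e => Subtype.ext (Subtype.ext ?_)) (by rw [Nat.card_prod]; exact Nat.mul_le_mul_left _ hR)
        simp only [Prod.mk.injEq] at e
        have e1 : B τ.y x.1.1 = B τ.y z.1.1 := congrArg (fun u : (Herm.fixField θ)ˣ => ((u : Herm.fixField θ) : F)) e.1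
        have e2 : τ.pr x.1.1 = τ.pr z.1.1 := congrArg Subtype.val e.2
        have hx := hq _ x.1.2.1 x.1.2.2
        have hz := hq _ z.1.2.1 z.1.2.2
        rw [e2, e1] at hx
        have e3 : B τ.f x.1.1 = B τ.f z.1.1 :=
          mul_left_cancel₀ (mul_ne_zero h2 z.2) (by linear_combination hx - hz)
        rw [τ.decomp x.1.1, τ.decomp z.1.1, e1, e2, e3]
      have hsum : Nat.card {x : V // x ∈ L ∧ B x x = 0} = Nat.card Z + Nat.card N := by
        rw [← Nat.card_sum]
        exact Nat.card_congr (Equiv.sumCompl _).symm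
      rw [hsum, pow_two]
      have hq2 : 1 ≤ Nat.card (Herm.fixField θ) := Nat.card_pos
      obtain ⟨r, hr⟩ : ∃ r, Nat.card (Herm.fixField θ) = r + 1 := ⟨_, (Nat.sub_add_cancel hq2).symm⟩
      rw [hr] at hZ hN ⊢
      rw [Nat.add_sub_cancel] at hN
      nlinarith
    · refine le_trans (Nat.card_le_card_of_injective (fun x : {x : V // x ∈ L ∧ B x x = 0 ∧ B τ.y x = 1} =>
        (⟨τ.pr x.1, hpr _ x.2.1⟩ : {a : τ.W | (a : V) ∈ L})) fun x z e => Subtype.ext ?_) hR
      have e2 : τ.pr x.1 = τ.pr z.1 := congrArg Subtype.val e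
      have hx := hq _ x.2.1 x.2.2.1
      have hz := hq _ z.2.1 z.2.2.1
      rw [x.2.2.2, e2] at hx
      rw [z.2.2.2] at hz
      have e3 : B τ.f x.1 = B τ.f z.1 := mul_left_cancel₀ h2 (by linear_combination hx - hz)
      rw [τ.decomp x.1, τ.decomp z.1, x.2.2.2, z.2.2.2, e2, e3]

/-- A real subgroup beyond a plane contains an isotropic vector. -/
theorem exists_iso (h : Herm.IsHerm B) (hbig : Nat.card (Herm.fixField θ) ^ 2 < Nat.card L) :
    ∃ v ∈ L, v ≠ 0 ∧ B v v = 0 := by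
  by_contra hc
  push Not at hc
  have : Finite V := Module.finite_of_finite F
  have hfix : ∀ x ∈ L, θ (B x x) = B x x := fun x hx => hreal x hx x hx
  have hL1 : L ≠ ⊥ := fun e => by
    rw [e, AddSubgroup.card_bot] at hbig
    have := two_le_fix h.toIsInvol
    nlinarith
  obtain ⟨v1, hv1, hv10⟩ : ∃ v ∈ L, v ≠ 0 := by
    by_contra hc'; push Not at hc'; exact hL1 ((AddSubgroup.eq_bot_iff_forall _).2 hc')
  have ha := hc v1 hv1 hv10
  obtain ⟨v2, hv2, hv2'⟩ : ∃ v2 ∈ L, ∀ r : Herm.fixField θ, v2 ≠ (r : F) • v1 := by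
    by_contra hc'
    push Not at hc'
    choose f hf using hc'
    have := Nat.card_le_card_of_injective (fun x : L => f x x.2) fun x z e => Subtype.ext (by
      rw [hf x x.2, hf z z.2, show f x x.2 = f z z.2 from e])
    have := two_le_fix h.toIsInvol
    nlinarith
  set r12 := B v1 v2 / B v1 v1 with hr12
  have hr12r : θ r12 = r12 := by rw [hr12, map_div₀, hreal _ hv1 _ hv2, hfix _ hv1]
  set u2 := v2 - r12 • v1 with hu2
  have hu2L : u2 ∈ L := L.sub_mem hv2 (hsmul _ hr12r _ hv1)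
  have hu20 : u2 ≠ 0 := fun e => hv2' ⟨r12, hr12r⟩ (sub_eq_zero.1 e)
  have hp12 : B v1 u2 = 0 := by rw [hu2, map_sub, map_smul, smul_eq_mul, hr12, div_mul_cancel₀ _ ha, sub_self]
  have hb := hc u2 hu2L hu20
  obtain ⟨v3, hv3, hv3'⟩ : ∃ v3 ∈ L, ∀ r s : Herm.fixField θ, v3 ≠ (r : F) • v1 + (s : F) • u2 := by
    by_contra hc'
    push Not at hc'
    choose f g hfg using hc'
    have := Nat.card_le_card_of_injective (fun x : L => (f x x.2, g x x.2)) fun x z e => Subtype.ext (by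
      simp only [Prod.mk.injEq] at e
      rw [hfg x x.2, hfg z z.2, e.1, e.2])
    rw [Nat.card_prod, ← pow_two] at this
    omega
  set r1 := B v1 v3 / B v1 v1 with hr1
  set r2 := B u2 v3 / B u2 u2 with hr2
  have hr1r : θ r1 = r1 := by rw [hr1, map_div₀, hreal _ hv1 _ hv3, hfix _ hv1]
  have hr2r : θ r2 = r2 := by rw [hr2, map_div₀, hreal _ hu2L _ hv3, hfix _ hu2L]
  set u3 := v3 - (r1 • v1 + r2 • u2) with hu3
  have hu3L : u3 ∈ L := L.sub_mem hv3 (L.add_mem (hsmul _ hr1r _ hv1) (hsmul _ hr2r _ hu2L))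
  have hu30 : u3 ≠ 0 := fun e => hv3' ⟨r1, hr1r⟩ ⟨r2, hr2r⟩ (sub_eq_zero.1 e)
  have hp21 : B u2 v1 = 0 := (Herm.eq_zero_comm h).1 hp12
  have hp13 : B v1 u3 = 0 := by
    simp only [hu3, map_sub, map_add, map_smul, smul_eq_mul, hp12, mul_zero, add_zero, hr1,
      div_mul_cancel₀ _ ha, sub_self]
  have hp23 : B u2 u3 = 0 := by
    simp only [hu3, map_sub, map_add, map_smul, smul_eq_mul, hp21, mul_zero, zero_add, hr2,
      div_mul_cancel₀ _ hb, sub_self]
  have hcc := hc u3 hu3L hu30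
  obtain ⟨x, y, hx, hy, hxy⟩ := exists_sum_sq h.toIsInvol (hfix _ hv1) (hfix _ hu2L) (hfix _ hu3L) ha hb
  refine hc (x • v1 + y • u2 + u3) (L.add_mem (L.add_mem (hsmul _ hx _ hv1) (hsmul _ hy _ hu2L)) hu3L) ?_ ?_
  · intro e
    refine hcc ?_
    have h0 := congrArg (B u3) e
    simpa [(Herm.eq_zero_comm h).1 hp13, (Herm.eq_zero_comm h).1 hp23] using h0
  · simp [hp12, hp21, hp13, hp23, (Herm.eq_zero_comm h).1 hp13, (Herm.eq_zero_comm h).1 hp23, hx, hy]
    linear_combination hxy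

end Real

include hd in
/-- The index of the stabiliser of a real subgroup. -/
theorem index_real (h : Herm.IsHerm B) (J : Subgroup (Herm.suG B))
    (hinv : ∀ g ∈ J, ∀ x ∈ L, g.1 x ∈ L) (hreal : ∀ x ∈ L, ∀ z ∈ L, θ (B x z) = B x z) (hne : L ≠ ⊥) :
    Nat.card (Herm.fixField θ) ^ 3 + 1 ≤ J.index ∧ (Nat.card (Herm.fixField θ) ^ 2 < Nat.card L →
      Nat.card (Herm.fixField θ) ^ 3 + Nat.card (Herm.fixField θ) + 1 ≤ J.index) := by
  classical
  have : Finite V := Module.finite_of_finite F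
  have := Fr.finite_su (B := B)
  set q := Nat.card (Herm.fixField θ) with hq
  have h2 : 2 ≤ q := two_le_fix h.toIsInvol
  set M := realSpan θ L with hM
  have hinvM : ∀ g ∈ J, ∀ x ∈ M, g.1 x ∈ M := fun g hg x hx => realSpan_inv L (hinv g hg) hx
  have hrealM : ∀ x ∈ M, ∀ z ∈ M, θ (B x z) = B x z := fun x hx z hz => realSpan_real L hreal hx hz
  have hsM : ∀ r : F, θ r = r → ∀ x ∈ M, r • x ∈ M := fun r hr x hx => realSpan_smul L hr hx
  have hodd : Odd 3 := by decide
  have hC0 : Nat.card {x : V | x ≠ 0 ∧ B x x = 0} = (q ^ 3 + 1) * (q ^ 2 - 1) := card_iso h hd hodd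
  have hq2 : 1 ≤ q ^ 2 := Nat.one_le_pow _ _ (by omega)
  by_cases hbig : q ^ 2 < Nat.card M
  swap
  · -- a small subgroup meets some class
    refine ⟨?_, fun h' => absurd (h'.trans_le (Nat.card_le_card_of_injective _
      (AddSubgroup.inclusion_injective (le_realSpan L)))) hbig⟩
    obtain ⟨v, hv, hv0⟩ : ∃ v ∈ M, v ≠ 0 := by
      by_contra hc'
      push Not at hc'
      exact hne ((AddSubgroup.eq_bot_iff_forall _).2 fun x hx => hc' x (le_realSpan L hx))
    have hcount := orbit_count (C := {x | x ≠ 0 ∧ B x x = B v v}) (U := (M : Set V))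
      (fun g x hx => norm_inv _ g hx) (fun x hx z hz => by
        by_cases h0 : B v v = 0
        · exact trans_iso h (by omega) hx.1 (hx.2.trans h0) hz.1 (hz.2.trans h0)
        · exact trans_aniso h (by omega) (by rw [hz.2]; exact h0) (hx.2.trans hz.2.symm))
      J hinvM ⟨v, hv, hv0, rfl⟩
    have hle : Nat.card ↥((M : Set V) ∩ {x | x ≠ 0 ∧ B x x = B v v}) + 1 ≤ q ^ 2 := by
      refine le_trans ?_ (not_lt.1 hbig)
      rw [← Finite.card_option]
      refine Nat.card_le_card_of_injective (fun o => o.elim (0 : M) fun x => ⟨x.1, x.2.1⟩) ?_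
      rintro (_ | x) (_ | z) e
      · rfl
      · exact absurd (congrArg Subtype.val e).symm z.2.2.1
      · exact absurd (congrArg Subtype.val e) x.2.2.1
      · exact congrArg some (Subtype.ext (congrArg (fun z : M => (z : V)) e))
    have hle' : Nat.card ↥((M : Set V) ∩ {x | x ≠ 0 ∧ B x x = B v v}) ≤ q ^ 2 - 1 := by omega
    have hC : (q ^ 3 + 1) * (q ^ 2 - 1) ≤ Nat.card {x : V | x ≠ 0 ∧ B x x = B v v} := by
      by_cases h0 : B v v = 0
      · rw [h0, hC0]
      · rw [show {x : V | x ≠ 0 ∧ B x x = B v v} = {x : V | B x x = B v v} from Set.ext fun x =>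
          ⟨fun hx => hx.2, fun hx => ⟨fun e => h0 (by rw [← (show B x x = B v v from hx), e]; simp), hx⟩⟩,
          show Nat.card {x : V | B x x = B v v} = q ^ 2 * (q ^ 3 + 1) from
            card_aniso h hd hodd (Herm.fix_self h v) h0, mul_comm]
        exact Nat.mul_le_mul_right _ (Nat.sub_le _ _)
    have h3 := hC.trans (hcount.trans (Nat.mul_le_mul_left _ hle'))
    have : 2 ^ 2 ≤ q ^ 2 := Nat.pow_le_pow_left h2 2
    exact Nat.le_of_mul_le_mul_right h3 (by omega)
  suffices q ^ 3 + q + 1 ≤ J.index from ⟨le_trans (by omega) this, fun _ => this⟩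
  obtain ⟨v, hv, hv0, hvv⟩ := exists_iso hd M hrealM hsM h hbig
  by_cases hA : ∃ w ∈ M, B w w = 0 ∧ B v w ≠ 0
  · obtain ⟨w, hw, hww, hvw⟩ := hA
    let τ : Fr B := ⟨h, v, (B v w)⁻¹ • w, hvv, by rw [Herm.smul_self h, hww, mul_zero],
      by rw [map_smul, smul_eq_mul, inv_mul_cancel₀ hvw]⟩
    have hfM : τ.f ∈ M := hsM _ (by rw [map_inv₀, hrealM _ hv _ hw]) _ hw
    -- pairs of isotropic vectors with product one
    set C : Set (V × V) := {p | (p.1 ≠ 0 ∧ B p.1 p.1 = 0) ∧ B p.2 p.2 = 0 ∧ B p.1 p.2 = 1} with hCdef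
    have hcount := orbit_count_gen (G := Herm.suG B) (fun g p => ((g.1 p.1, g.1 p.2) : V × V)) (fun _ => rfl)
      (fun _ _ _ => rfl) (C := C) (U := ((M : Set V) ×ˢ (M : Set V)))
      (fun g p hp => ⟨norm_inv _ g hp.1, by rw [g.2.1]; exact hp.2.1, by rw [g.2.1]; exact hp.2.2⟩)
      (fun p hp p' hp' => by
        obtain ⟨g, hg⟩ := trans_iso h (by omega) hp.1.1 hp.1.2 hp'.1.1 hp'.1.2
        obtain ⟨g', hg1, hg2⟩ := Herm.stab_trans h (e := p'.1) (f := g.1 p.2) (f' := p'.2) hp'.1.2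
          (by rw [g.2.1]; exact hp.2.1) (by rw [← hg, g.2.1]; exact hp.2.2) hp'.2.1 hp'.2.2
        exact ⟨g' * g, Prod.ext (by
          show (g' * g).1 p.1 = p'.1
          rw [Subgroup.coe_mul, LinearEquiv.mul_apply, hg, hg1]) hg2⟩)
      J (fun g hg p hp => ⟨hinvM g hg _ hp.1, hinvM g hg _ hp.2⟩)
      ⟨(τ.y, τ.f), ⟨hv, hfM⟩, ⟨hv0, hvv⟩, τ.hff, τ.hyf⟩
    obtain ⟨hi1, -⟩ := card_iso_le hd M hrealM hsM τ hv hfM
    have hup : Nat.card ↥(((M : Set V) ×ˢ (M : Set V)) ∩ C) ≤ (q ^ 2 - 1) * q := by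
      let I := {x : V // x ≠ 0 ∧ x ∈ M ∧ B x x = 0}
      have hI : Nat.card I + 1 ≤ q ^ 2 := by
        refine le_trans ?_ hi1
        rw [← Finite.card_option]
        refine Nat.card_le_card_of_injective (fun o => o.elim (⟨0, zero_mem _, by simp⟩ :
          {x : V // x ∈ M ∧ B x x = 0}) fun x => ⟨x.1, x.2.2⟩) ?_
        rintro (_ | x) (_ | z) e
        · rfl
        · exact absurd (congrArg Subtype.val e).symm z.2.1
        · exact absurd (congrArg Subtype.val e) x.2.1
        · exact congrArg some (Subtype.ext (congrArg (fun z : {x : V // x ∈ M ∧ B x x = 0} => z.1) e))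
      have : Fintype I := Fintype.ofFinite I
      refine le_trans (Nat.card_le_card_of_injective (β := (x : I) × {z : V // z ∈ M ∧ B z z = 0 ∧ B x.1 z = 1})
        (fun p => ⟨⟨p.1.1, p.2.2.1.1, p.2.1.1, p.2.2.1.2⟩, ⟨p.1.2, p.2.1.2, p.2.2.2⟩⟩) fun p p' e => ?_) ?_
      · exact Subtype.ext (congrArg
          (fun t : (x : I) × {z : V // z ∈ M ∧ B z z = 0 ∧ B x.1 z = 1} => (t.1.1, t.2.1)) e)
      rw [Nat.card_sigma]
      refine (Finset.sum_le_card_nsmul _ _ q fun x _ => ?_).trans ?_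
      · by_cases he : ∃ z : V, z ∈ M ∧ B z z = 0 ∧ B x.1 z = 1
        · obtain ⟨z, hz, hzz, hxz⟩ := he
          exact (card_iso_le hd M hrealM hsM ⟨h, x.1, z, x.2.2.2, hzz, hxz⟩ x.2.2.1 hz).2
        · have : IsEmpty {z : V // z ∈ M ∧ B z z = 0 ∧ B x.1 z = 1} := ⟨fun z => he ⟨z.1, z.2⟩⟩
          simp
      · rw [Finset.card_univ, ← Nat.card_eq_fintype_card, smul_eq_mul]
        exact Nat.mul_le_mul_right _ (by omega)
    have hlow : (q ^ 3 + 1) * (q ^ 2 - 1) * q ^ 2 ≤ Nat.card C := by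
      let I := {x : V | x ≠ 0 ∧ B x x = 0}
      have : Fintype I := Fintype.ofFinite I
      rw [← hC0]
      refine le_trans ?_ (Nat.card_le_card_of_injective
        (α := (x : I) × {z : V // B z z = 0 ∧ B x.1 z = 1}) (fun p => (⟨(p.1.1, p.2.1), p.1.2, p.2.2⟩ : C))
        fun p p' e => ?_)
      · rw [Nat.card_sigma]
        refine le_trans (le_of_eq ?_) (Finset.card_nsmul_le_sum _ _ (q ^ 2) fun x _ => ?_)
        · rw [Finset.card_univ, ← Nat.card_eq_fintype_card, smul_eq_mul]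
        · obtain ⟨ρ, hρ⟩ := exists_frame h x.2.1 x.2.2
          have hW : Nat.card ρ.W = q ^ 2 := by rw [ρ.card_W (finrank_line hd ρ)]
          rw [← hW]
          choose c hc using ρ.exists_vec
          refine Nat.card_le_card_of_injective (fun u : ρ.W => ⟨(ρ.sh u (c u) (hc u)).1 ρ.f, by
              rw [(ρ.sh u (c u) (hc u)).2.1]; exact ρ.hff, by
              rw [← hρ, ← ρ.sh_y u (c u) (hc u), (ρ.sh u (c u) (hc u)).2.1]; exact ρ.hyf⟩) fun u u' e => ?_
          have e' := congrArg ρ.pr (congrArg Subtype.val e)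
          simpa [ρ.sh_f, ρ.pr_W, ρ.pr_f, ρ.pr_y] using e'
      · have e1 := congrArg Subtype.val e
        simp only [Prod.mk.injEq] at e1
        obtain ⟨⟨a, ha⟩, b⟩ := p
        obtain ⟨⟨a', ha'⟩, b'⟩ := p'
        obtain rfl : a = a' := e1.1
        obtain rfl : b = b' := Subtype.ext e1.2
        rfl
    have h3 := hlow.trans (hcount.trans (Nat.mul_le_mul_left _ hup))
    have h4 : (q ^ 3 + 1) * q * ((q ^ 2 - 1) * q) ≤ J.index * ((q ^ 2 - 1) * q) := le_trans (le_of_eq (by ring)) h3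
    have hpos : 0 < (q ^ 2 - 1) * q := by
      have : 2 ^ 2 ≤ q ^ 2 := Nat.pow_le_pow_left h2 2
      exact Nat.mul_pos (by omega) (by omega)
    have h5 := Nat.le_of_mul_le_mul_right h4 hpos
    nlinarith [Nat.mul_le_mul_right (q ^ 3) h2]
  -- everything is perpendicular to v
  push Not at hA
  obtain ⟨τ, rfl⟩ := exists_frame h hv0 hvv
  have hperp : ∀ x ∈ M, B τ.y x = 0 := by
    by_contra hc
    push Not at hc
    obtain ⟨u, hu, hvu⟩ := hc
    by_cases h20 : (2 : F) = 0
    swap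
    · set t := B u u / (2 * B τ.y u) with ht
      have htr : θ t = t := by
        rw [ht, map_div₀, map_mul, map_ofNat, hrealM _ hu _ hu, hrealM _ hv _ hu]
      have hw : B (u - t • τ.y) (u - t • τ.y) = 0 := by
        simp only [map_sub, LinearMap.sub_apply, map_smulₛₗ, LinearMap.smul_apply, smul_eq_mul, RingHom.id_apply,
          τ.hyy, htr, ← h.symm τ.y u, hrealM _ hv _ hu]
        rw [ht]
        field_simp
        ring
      exact hvu (by simpa [τ.hyy] using hA (u - t • τ.y) (M.sub_mem hu (hsM _ htr _ hv)) hw)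
    have hu' : B u u ≠ 0 := fun h0 => hvu (hA u hu h0)
    have hsub : ∀ s : M, ∃ r z : Herm.fixField θ, (s : V) = (z : F) • τ.y + (r : F) • u := fun s => by
      obtain ⟨r, hr, hr2⟩ := exists_sqrt h.toIsInvol h20 (a := B (s : V) (s : V) / B u u)
        (by rw [map_div₀, hrealM _ s.2 _ s.2, hrealM _ hu _ hu])
      have hiso : B ((s : V) + r • u) ((s : V) + r • u) = 0 := by
        simp [hr, ← h.symm (s : V) u, hrealM _ s.2 _ hu]
        have : r ^ 2 * B u u = B (s : V) (s : V) := by rw [hr2, div_mul_cancel₀ _ hu']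
        linear_combination this + (B (s : V) (s : V) + r * B (s : V) u) * h20
      have hmem : (s : V) + r • u ∈ M := M.add_mem s.2 (hsM _ hr _ hu)
      obtain ⟨z, hz⟩ := perp_iso hd τ hiso (hA _ hmem hiso)
      have hzr : θ z = z := by
        have e := hrealM _ hu _ hmem
        rw [hz, map_smul, smul_eq_mul, map_mul, hrealM _ hu _ hv] at e
        exact mul_right_cancel₀ (fun h0 => hvu ((Herm.eq_zero_comm h).1 h0)) e
      refine ⟨⟨-r, by rw [Herm.mem_fixField, map_neg, hr]⟩, ⟨z, hzr⟩, ?_⟩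
      show (s : V) = z • τ.y + (-r) • u
      rw [← hz, neg_smul, add_neg_cancel_right]
    choose r z hrz using hsub
    have := Nat.card_le_card_of_injective (fun s : M => (r s, z s)) fun s s' e => Subtype.ext (by
      simp only [Prod.mk.injEq] at e
      rw [hrz s, hrz s', e.1, e.2])
    rw [Nat.card_prod, ← pow_two, ← hq] at this
    omega
  have hJP : J ≤ τ.P := fun g hg => by
    have hgy := hinvM g hg _ hv
    have hg0 : g.1 τ.y ≠ 0 := fun e => τ.y_ne (g.1.map_eq_zero_iff.1 e)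
    obtain ⟨z, hz⟩ := perp_iso hd τ (by rw [g.2.1]; exact τ.hyy) (hperp _ hgy)
    have hz0 : z ≠ 0 := fun e => hg0 (by rw [hz, e, zero_smul])
    exact ⟨Units.mk0 z hz0, hz⟩
  obtain ⟨c, hcM, hc⟩ : ∃ c ∈ M, τ.pr c ≠ 0 := by
    by_contra hc
    push Not at hc
    have := Nat.card_le_card_of_injective (β := F) (fun x : M => B τ.f (x : V)) fun x x' e => Subtype.ext (by
      rw [τ.decomp (x : V), τ.decomp (x' : V), hc _ x.2, hc _ x'.2, hperp _ x.2, hperp _ x'.2,
        show B τ.f (x : V) = B τ.f (x' : V) from e])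
    rw [Herm.card_eq_fix_sq h.toIsInvol, ← hq] at this
    omega
  obtain ⟨e, he0, hline⟩ := exists_line hd τ
  have he : τ.BW e e = 1 := he0
  obtain ⟨b, hb2, hbr, -⟩ := exists_generic h.toIsInvol
  set μ := θ (b : F) / b with hμ
  have hμn : μ * θ μ = 1 := quot_norm h.toIsInvol
  have hθb : θ (b : F) ≠ 0 := (map_ne_zero θ).2 b.ne_zero
  have hg : τ.ext b (dil (B := τ.BW) he μ hμn) ∈ Herm.suG B :=
    ⟨τ.ext_isometry b (dil_isometry τ.hB_W he μ hμn), Units.ext (by
      rw [τ.det_ext, det_dil, Units.val_one, hμ]; field_simp)⟩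
  have hgP : (⟨_, hg⟩ : Herm.suG B) ∈ τ.P := ⟨b, τ.ext_y b _⟩
  have hgJ : (⟨_, hg⟩ : Herm.suG B) ∉ J := fun hgJ => by
    have h1 := hrealM _ hcM _ (hinvM _ hgJ _ hcM)
    rw [τ.B_decomp c, hperp _ hcM, hperp _ (hinvM _ hgJ _ hcM), map_zero, mul_zero, zero_mul, add_zero,
      add_zero] at h1
    have h2 : τ.pr ((⟨_, hg⟩ : Herm.suG B).1 c) = μ • τ.pr c := by
      show τ.pr (τ.ext b (dil (B := τ.BW) he μ hμn) c) = _
      rw [τ.ext_apply, dil_apply]
      simp [τ.pr_W, τ.pr_y, τ.pr_f]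
      rw [τ.BW_apply]
      conv_lhs => rw [hline (τ.pr c)]
      conv_rhs => rw [hline (τ.pr c)]
      simp [he0]
      module
    rw [h2, Submodule.coe_smul, map_smul, smul_eq_mul, map_mul, Herm.fix_self h] at h1
    have h3 := mul_right_cancel₀ (aniso_line hd τ hc) h1
    refine hb2 ?_
    rw [pow_two]
    conv_lhs => arg 2; rw [← h3]
    exact hμn
  have hrel : 2 ≤ J.relIndex τ.P := by
    have h0 : J.relIndex τ.P ≠ 0 := Subgroup.index_ne_zero_of_finite
    have h1 : J.relIndex τ.P ≠ 1 := fun e => hgJ (Subgroup.relIndex_eq_one.1 e hgP)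
    omega
  have hP : q ^ 3 + 1 ≤ τ.P.index := by
    have hcount := orbit_count (C := {x | x ≠ 0 ∧ B x x = 0}) (U := (Submodule.span F {τ.y} : Set V))
      (fun g x hx => norm_inv _ g hx) (fun x hx z hz => trans_iso h (by omega) hx.1 hx.2 hz.1 hz.2) τ.P
      (fun g hg x hx => by
        obtain ⟨a, ha⟩ := τ.mem_P.1 hg
        obtain ⟨c, rfl⟩ := Submodule.mem_span_singleton.1 hx
        exact Submodule.mem_span_singleton.2 ⟨c * a, by rw [map_smul, ha, smul_smul]⟩)
      ⟨τ.y, Submodule.mem_span_singleton_self _, τ.y_ne, τ.hyy⟩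
    have hle : Nat.card ↥((Submodule.span F {τ.y} : Set V) ∩ {x | x ≠ 0 ∧ B x x = 0}) + 1 ≤ q ^ 2 := by
      rw [← Herm.card_eq_fix_sq h.toIsInvol, ← Finite.card_option]
      refine Nat.card_le_card_of_injective (fun o => o.elim 0 fun x => B τ.f x.1) ?_
      have hkey : ∀ x : ↥((Submodule.span F {τ.y} : Set V) ∩ {x | x ≠ 0 ∧ B x x = 0}),
          B τ.f x.1 • τ.y = x.1 := fun x => by
        obtain ⟨c, hc⟩ := Submodule.mem_span_singleton.1 x.2.1
        rw [← hc]; simp [τ.hfy]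
      rintro (_ | x) (_ | z) e
      · rfl
      · exact absurd (by rw [← hkey z, ← (show (0 : F) = B τ.f z.1 from e), zero_smul]) z.2.2.1
      · exact absurd (by rw [← hkey x, (show B τ.f x.1 = 0 from e), zero_smul]) x.2.2.1
      · exact congrArg some (Subtype.ext (by rw [← hkey x, ← hkey z, show B τ.f x.1 = B τ.f z.1 from e]))
    have hle' : Nat.card ↥((Submodule.span F {τ.y} : Set V) ∩ {x | x ≠ 0 ∧ B x x = 0}) ≤ q ^ 2 - 1 := by omega
    rw [hC0] at hcount
    have : 2 ^ 2 ≤ q ^ 2 := Nat.pow_le_pow_left h2 2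
    exact Nat.le_of_mul_le_mul_right (hcount.trans (Nat.mul_le_mul_left _ hle')) (by omega)
  rw [← Subgroup.relIndex_mul_index hJP]
  nlinarith

end Cfsg.Agent.MinIndexForm.SU
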