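import Cfsg.Agent.MinIndexForm.SU.Base
import Cfsg.Agent.MinIndexForm.SU.Three
import Cfsg.Agent.MinIndexForm.SU.Pair

/-!
Lower bounds for orbits at a point, by the kind of the point.
-/

set_option autoImplicit false

namespace Cfsg.Agent.MinIndexForm.SU

open Cfsg.Agent.Classical Module

universe uF uV
variable {F : Type uF} [Field F] [Finite F] {θ : F →+* F}

section General
variable {V : Type uV} [AddCommGroup V] [Module F V] [FiniteDimensional F V] {B : V →ₛₗ[θ] V →ₗ[F] F}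

/-- An invariant additive subgroup meets two classes. -/
theorem card_invariant_ge (h : Herm.IsHerm B) {j : ℕ} (hj : 1 ≤ j) (hd : finrank F V = 2 * j + 1)
    (L : AddSubgroup V) (hinv : ∀ g : Herm.suG B, ∀ x ∈ L, g.1 x ∈ L) (hne : L ≠ ⊥) :
    2 * (Nc (Nat.card (Herm.fixField θ)) j * (Nat.card (Herm.fixField θ) ^ 2 - 1)) ≤ Nat.card L := by
  have : Finite V := Module.finite_of_finite F
  have h2 : 2 ≤ Nat.card (Herm.fixField θ) := two_le_fix h.toIsInvol
  set q := Nat.card (Herm.fixField θ) with hq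
  have hn2 : 2 ≤ finrank F V := by omega
  obtain ⟨e, he0, hee⟩ := Herm.exists_isotropic h hn2
  obtain ⟨τ, rfl⟩ := exists_frame h he0 hee
  have hnorm : ∀ d : F, B (τ.y + d • τ.f) (τ.y + d • τ.f) = d + θ d := fun d => by
    simp [τ.hyy, τ.hff, τ.hyf, τ.hfy]
  have hiso : ∀ u ∈ L, u ≠ 0 → B u u = 0 → ∀ x, B x x = 0 → x ∈ L := fun u hu hu0 huu x hxx => by
    rcases eq_or_ne x 0 with rfl | hx0
    · exact L.zero_mem
    obtain ⟨g, rfl⟩ := trans_iso h (by omega) hu0 huu hx0 hxx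
    exact hinv g u hu
  obtain ⟨k, hk0, hk⟩ := Herm.exists_skew h.toIsInvol
  obtain ⟨u, hu, hu0, huu⟩ : ∃ u ∈ L, u ≠ 0 ∧ B u u = 0 := by
    obtain ⟨v, hv, hv0⟩ : ∃ v ∈ L, v ≠ 0 := by
      by_contra hc; push Not at hc; exact hne ((AddSubgroup.eq_bot_iff_forall _).2 hc)
    by_cases hvv : B v v = 0
    · exact ⟨v, hv, hv0, hvv⟩
    obtain ⟨c, hc⟩ := Herm.exists_trace h.toIsInvol (Herm.fix_self h v)
    have hin : ∀ d : F, d + θ d = B v v → τ.y + d • τ.f ∈ L := fun d hd' => by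
      obtain ⟨g, hg⟩ := trans_aniso h hn2 (u := v) (w := τ.y + d • τ.f) (by rw [hnorm, hd']; exact hvv)
        (by rw [hnorm, hd'])
      exact hg ▸ hinv g v hv
    have hm := L.sub_mem (hin (c + k) (by rw [map_add, hk]; linear_combination hc)) (hin c hc)
    have hf0 : τ.f ≠ 0 := fun h0 => by simpa [h0] using τ.hyf
    refine ⟨k • τ.f, ?_, smul_ne_zero hk0 hf0, by simp [τ.hff]⟩
    convert hm using 1
    rw [add_smul]; abel
  obtain ⟨c1, hc1⟩ := Herm.exists_trace h.toIsInvol (a := (1 : F)) (map_one θ)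
  have hone : ∀ x, B x x = 1 → x ∈ L := fun x hx => by
    have hw : τ.y + c1 • τ.f ∈ L := L.add_mem (hiso u hu hu0 huu _ τ.hyy) (hiso u hu hu0 huu _ (by simp [τ.hff]))
    have hw1 : B (τ.y + c1 • τ.f) (τ.y + c1 • τ.f) = 1 := by rw [hnorm, hc1]
    obtain ⟨g, rfl⟩ := trans_aniso h hn2 (u := τ.y + c1 • τ.f) (w := x) (by rw [hx]; exact one_ne_zero)
      (by rw [hw1, hx])
    exact hinv g _ hw
  have hle : Nat.card ({x : V // x ≠ 0 ∧ B x x = 0} ⊕ {x : V // B x x = 1}) ≤ Nat.card L := by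
    refine Nat.card_le_card_of_injective (Sum.elim (fun x => (⟨x.1, hiso u hu hu0 huu _ x.2.2⟩ : L))
      fun x => ⟨x.1, hone _ x.2⟩) ?_
    rintro (x | x) (z | z) e
    · exact congrArg _ (Subtype.ext (congrArg Subtype.val e :))
    · have e' : x.1 = z.1 := congrArg Subtype.val e
      exact absurd z.2 (by rw [← e', x.2.2]; exact zero_ne_one)
    · have e' : x.1 = z.1 := congrArg Subtype.val e
      exact absurd x.2 (by rw [e', z.2.2]; exact zero_ne_one)
    · exact congrArg _ (Subtype.ext (congrArg Subtype.val e :))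
  rw [Nat.card_sum, card_iso h hd ⟨j, rfl⟩, card_aniso h hd ⟨j, rfl⟩ (map_one θ) one_ne_zero, ← hq] at hle
  refine le_trans ?_ hle
  rw [show 2 * j + 1 - 1 = 2 * j by omega, Nc_mul q j (by omega)]
  have h1 : (q ^ (2 * j + 1) + 1) * (q ^ (2 * j) - 1) ≤ q ^ (2 * j) * (q ^ (2 * j + 1) + 1) := by
    rw [mul_comm (q ^ (2 * j))]; exact Nat.mul_le_mul_left _ (Nat.sub_le _ _)
  omega

end General

namespace Fr

variable {V : Type uV} [AddCommGroup V] [Module F V] [FiniteDimensional F V] {B : V →ₛₗ[θ] V →ₗ[F] F}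
  (τ : Fr B) (K : Subgroup (Herm.suG B))

/-- The induction hypothesis: the bound one step down. -/
def Below (θ : F →+* F) (j : ℕ) : Prop :=
  2 ≤ j → ∀ (W : Type uV) [AddCommGroup W] [Module F W] [FiniteDimensional F W] (BW : W →ₛₗ[θ] W →ₗ[F] F),
    Herm.IsHerm BW → finrank F W = 2 * j + 1 → ∀ H : Subgroup (Herm.suG BW), H ≠ ⊤ →
      Nc (Nat.card (Herm.fixField θ)) j ≤ H.index

theorem mul_ge (hZ : τ.Zp K ≠ ⊤) :
    Nat.card (Herm.fixField θ) + (τ.T2 K).index ≤ (τ.T2 K).index * (τ.Zp K).index + 1 :=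
  index_mul_ge τ.hB.toIsInvol hZ fun _ ha _ hc h => τ.Zp_inv K ha hc h

theorem T2_pos : 1 ≤ (τ.T2 K).index := Nat.pos_of_ne_zero Subgroup.index_ne_zero_of_finite

theorem I1_pos : 1 ≤ (τ.I1 K).index :=
  have := finite_su (B := τ.BW)
  Nat.pos_of_ne_zero Subgroup.index_ne_zero_of_finite

theorem Sb_eq_bot {j : ℕ} (hj : 1 ≤ j) (hd : finrank F V = 2 * j + 3) (hZ : τ.Zp K ≠ ⊤) (hI : τ.I1 K = ⊤) :
    τ.Sb K = ⊥ := by
  by_contra hS
  have : Finite τ.W := Module.finite_of_finite F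
  have hdW : finrank F τ.W = 2 * j + 1 := by have := τ.finrank_W; omega
  have hL := card_invariant_ge τ.hB_W hj hdW (τ.Sb K)
    (fun g x hx => τ.Sb_inv_I1 K (hI ▸ Subgroup.mem_top g) hx) hS
  have h1 := τ.Sb_index_ge K hdW hZ
  have h2 := (τ.Sb K).card_mul_index
  rw [τ.card_W hdW] at h2
  have hq := two_le_fix τ.hB.toIsInvol
  set q := Nat.card (Herm.fixField θ) with hqd
  have h3 : Nat.card (τ.Sb K) ≤ q ^ (2 * j + 1) := by
    refine Nat.le_of_mul_le_mul_right ?_ (show 0 < q ^ (2 * j + 1) by positivity)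
    calc Nat.card (τ.Sb K) * q ^ (2 * j + 1) ≤ Nat.card (τ.Sb K) * (τ.Sb K).index := Nat.mul_le_mul_left _ h1
      _ = q ^ (2 * j + 1) * q ^ (2 * j + 1) := by rw [h2, ← pow_add, two_mul]
  rw [Nc_mul q j (by omega)] at hL
  have h4 : 3 ≤ q ^ (2 * j) - 1 := by
    have : 2 ^ 2 ≤ q ^ (2 * j) := (Nat.pow_le_pow_left hq 2).trans (Nat.pow_le_pow_right (by omega) (by omega))
    omega
  have h5 := Nat.mul_le_mul_left (q ^ (2 * j + 1) + 1) h4
  omega

/-- A moved point with a small Levi part. -/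
theorem moved_ge {j : ℕ} (hj : 1 ≤ j) (hd : finrank F V = 2 * j + 3) (hIH : Below.{uF, uV} θ j)
    (hZ : τ.Zp K ≠ ⊤) (hI : τ.I1 K ≠ ⊤) :
    Nc (Nat.card (Herm.fixField θ)) (j + 1) ≤ K.relIndex τ.P := by
  classical
  have : Finite τ.W := Module.finite_of_finite F
  have := finite_su (B := τ.BW)
  have hθ := τ.hB.toIsInvol
  have hdW : finrank F τ.W = 2 * j + 1 := by have := τ.finrank_W; omega
  rw [τ.relIndex_P K (by omega)]
  have hw := τ.Sb_index_ge K hdW hZ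
  have htz := τ.mul_ge K hZ
  have ht := τ.T2_pos K
  have hz : 2 ≤ (τ.Zp K).index := by
    have : (τ.Zp K).index ≠ 0 := AddSubgroup.index_ne_zero_of_finite
    have : (τ.Zp K).index ≠ 1 := fun h1 => hZ (AddSubgroup.index_eq_one.1 h1)
    omega
  have hq := two_le_fix hθ
  set q := Nat.card (Herm.fixField θ) with hqd
  set t := (τ.T2 K).index
  set z := (τ.Zp K).index with hzd
  set w := (τ.Sb K).index with hwd
  set i := (τ.I1 K).index with hid
  have hi2 : 2 ≤ i := by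
    have : i ≠ 0 := Subgroup.index_ne_zero_of_finite
    have : i ≠ 1 := fun h1 => hI (Subgroup.index_eq_one.1 h1)
    omega
  rcases Nat.lt_or_ge j 2 with hj1 | hj2
  swap
  · have hi : Nc q j ≤ i := hIH hj2 τ.W τ.BW τ.hB_W hdW _ hI
    rw [Nc_succ q j hq]
    have hN : (q ^ (2 * j + 1) + 1) * q ^ (2 * j - 2) ≤ Nc q j := by
      refine Nat.mul_le_mul_left _ ?_
      rw [show 2 * j - 2 = 2 * (j - 1) by omega, pow_mul]
      exact Finset.single_le_sum (f := fun i => (q ^ 2) ^ i) (fun _ _ => Nat.zero_le _)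
        (Finset.mem_range.2 (show j - 1 < j by omega))
    have h1 : q ^ (4 * j + 3) ≤ Nc q j * q ^ (2 * j + 1) := by
      calc q ^ (4 * j + 3) ≤ q ^ (2 * j + 1 + (2 * j - 2) + (2 * j + 1)) := Nat.pow_le_pow_right (by omega) (by omega)
        _ ≤ (q ^ (2 * j + 1) + 1) * q ^ (2 * j - 2) * q ^ (2 * j + 1) := by
          rw [pow_add, pow_add]; gcongr; omega
        _ ≤ Nc q j * q ^ (2 * j + 1) := Nat.mul_le_mul_right _ hN
    have h2 : q ^ 2 * Nc q j + 1 ≤ Nc q j * q ^ (2 * j + 1) := by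
      have h3 : q ^ 2 + 1 ≤ q ^ (2 * j + 1) :=
        le_trans (by rw [pow_succ q 2]; nlinarith) (Nat.pow_le_pow_right (by omega) (show 3 ≤ 2 * j + 1 by omega))
      have h4 : 1 ≤ Nc q j := le_trans (Nat.one_le_iff_ne_zero.2 (by positivity)) hN
      nlinarith
    calc q ^ 2 * Nc q j + q ^ (4 * j + 3) + 1 ≤ 1 * (Nc q j * (q ^ (2 * j + 1) * 2)) := by linarith
      _ ≤ t * (i * (w * z)) := by gcongr
  obtain rfl : j = 1 := by omega
  rw [Nc_succ q 1 hq, Nc_one, show 4 * 1 + 3 = 7 from rfl]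
  have h57 : q ^ 5 + q ^ 2 + 1 ≤ q ^ 7 := by
    have h1 : q ^ 2 ≤ q ^ 5 := Nat.pow_le_pow_right (by omega) (by omega)
    have h2 : 1 ≤ q ^ 2 := Nat.one_le_pow _ _ (by omega)
    have h3 : 4 * q ^ 5 ≤ q ^ 7 := by rw [pow_add q 2 5]; gcongr; nlinarith
    omega
  have hsw := (τ.Sb K).card_mul_index
  rw [τ.card_W hdW, show 2 * (2 * 1 + 1) = 6 from rfl, ← hwd, ← hqd] at hsw
  have hcz := (τ.Zp K).card_mul_index
  rw [card_skew hθ, ← hzd, ← hqd] at hcz
  by_cases hZb : τ.Zp K = ⊥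
  · have hzq : z = q := by rw [hZb, AddSubgroup.card_bot, one_mul] at hcz; exact hcz
    suffices q ^ 7 + q ^ 5 + q ^ 2 + 1 ≤ i * (w * q) by
      rw [hzq]
      calc _ = q ^ 7 + q ^ 5 + q ^ 2 + 1 := by ring
        _ ≤ 1 * (i * (w * q)) := by omega
        _ ≤ t * (i * (w * q)) := Nat.mul_le_mul_right _ ht
    by_cases hS : τ.Sb K = ⊥
    · rw [hS, AddSubgroup.card_bot, one_mul] at hsw
      rw [hsw]
      calc _ ≤ 2 * (q ^ 6 * q) := by linarith
        _ ≤ i * (q ^ 6 * q) := Nat.mul_le_mul_right _ hi2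
    have hreal : ∀ x ∈ τ.Sb K, ∀ v ∈ τ.Sb K, θ (τ.BW x v) = τ.BW x v := fun x hx v hv => by
      have := τ.comm_Sb K hx hv (τ.comm_skew x v)
      rw [hZb, AddSubgroup.mem_bot] at this
      have e : B (v : V) (x : V) - B (x : V) (v : V) = 0 := congrArg Subtype.val this
      rw [τ.BW_apply, τ.hB.symm]
      exact sub_eq_zero.1 e
    obtain ⟨hi, hi'⟩ := index_real (by omega) (τ.Sb K) τ.hB_W (τ.I1 K)
      (fun g hg x hx => τ.Sb_inv_I1 K hg hx) hreal hS
    rcases eq_or_lt_of_le hw with hw3 | hw3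
    · have hs : Nat.card (τ.Sb K) = q ^ 3 := by
        rw [← hw3] at hsw
        refine Nat.eq_of_mul_eq_mul_right (show 0 < q ^ 3 by positivity) ?_
        rw [← pow_add]; exact hsw
      have hlt : q ^ 2 < q ^ 3 := Nat.pow_lt_pow_right (by omega) (by omega)
      have := hi' (by rw [hs]; exact hlt)
      rw [← hw3, show 2 * 1 + 1 = 3 from rfl]
      calc q ^ 7 + q ^ 5 + q ^ 2 + 1 ≤ (q ^ 3 + q + 1) * (q ^ 3 * q) := by
            have : q ^ 2 + 1 ≤ q ^ 4 := by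
              have : 4 * q ^ 2 ≤ q ^ 4 := by rw [pow_add q 2 2]; gcongr; nlinarith
              have : 1 ≤ q ^ 2 := Nat.one_le_pow _ _ (by omega)
              omega
            linarith
        _ ≤ i * (q ^ 3 * q) := Nat.mul_le_mul_right _ this
    · have hw2 : 2 * q ^ 3 ≤ w := by
        have : Fintype F := Fintype.ofFinite F
        obtain ⟨p, hp⟩ := CharP.exists F
        obtain ⟨n, hpp, hn⟩ := FiniteField.card F p
        have hFq := Herm.card_eq_fix_sq hθ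
        rw [Nat.card_eq_fintype_card, hn, ← hqd] at hFq
        obtain ⟨e, -, he⟩ := (Nat.dvd_prime_pow hpp).1 (show q ∣ p ^ (n : ℕ) from ⟨q, by rw [hFq, sq]⟩)
        obtain ⟨a, -, ha⟩ := (Nat.dvd_prime_pow hpp).1 (show w ∣ p ^ (e * 6) from ⟨Nat.card (τ.Sb K), by
          rw [pow_mul, ← he, ← hsw, mul_comm]⟩)
        rw [show 2 * 1 + 1 = 3 from rfl, he, ← pow_mul, ha] at hw3
        have hlt := (Nat.pow_lt_pow_iff_right hpp.one_lt).1 hw3
        rw [he, ← pow_mul, ha]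
        exact (Nat.mul_le_mul_right _ hpp.two_le).trans
          (by rw [← pow_succ']; exact Nat.pow_le_pow_right hpp.pos hlt)
      calc q ^ 7 + q ^ 5 + q ^ 2 + 1 ≤ (q ^ 3 + 1) * (2 * q ^ 3 * q) := by
            have : 0 ≤ q ^ 4 := Nat.zero_le _
            linarith
        _ ≤ i * (w * q) := by gcongr
  · have hzc : 2 ≤ Nat.card (τ.Zp K) := AddSubgroup.one_lt_card_iff_ne_bot _ |>.2 hZb
    have hq4 : 4 ≤ q ∧ z < q := by
      constructor
      · calc 4 = 2 * 2 := rfl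
          _ ≤ Nat.card (τ.Zp K) * z := Nat.mul_le_mul hzc hz
          _ = q := hcz
      · nlinarith
    have hq5 : q ≠ 5 := fun h5 => by
      have : Nat.card (τ.Zp K) ≤ 5 := by nlinarith
      have : z ≤ 5 := by nlinarith
      rw [h5] at hcz
      interval_cases z <;> omega
    have hi : q ^ 3 + 1 ≤ i := base_three τ.hB_W (by omega) (by omega) hq5 _ hI
    have ht2 : 2 ≤ t := by
      by_contra hc
      have : t = 1 := by omega
      rw [this] at htz; omega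
    calc _ = q ^ 7 + q ^ 5 + q ^ 2 + 1 := by ring
      _ ≤ (q ^ 3 + 1) * (q ^ 3 * (q + 1)) := by
          have : q ^ 5 ≤ q ^ 6 := Nat.pow_le_pow_right (by omega) (by omega)
          have : q ^ 2 + 1 ≤ q ^ 4 + q ^ 3 := by
            have : q ^ 2 ≤ q ^ 4 := Nat.pow_le_pow_right (by omega) (by omega)
            have : 1 ≤ q ^ 3 := Nat.one_le_pow _ _ (by omega)
            omega
          linarith
      _ ≤ i * (w * (t * z)) := by gcongr; omega
      _ = t * (i * (w * z)) := by ring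

/-- A moved point with a full Levi part. -/
theorem moved_top {j : ℕ} (hj : 1 ≤ j) (hd : finrank F V = 2 * j + 3) (hZ : τ.Zp K ≠ ⊤) (hI : τ.I1 K = ⊤) :
    Nat.card (Herm.fixField θ) ^ (4 * j + 3) ≤ K.relIndex τ.P := by
  have hdW : finrank F τ.W = 2 * j + 1 := by have := τ.finrank_W; omega
  rw [τ.relIndex_P K (by omega), hI, Subgroup.index_top, τ.Sb_eq_bot K hj hd hZ hI, AddSubgroup.index_bot,
    τ.card_W hdW, one_mul, show 4 * j + 3 = 2 * (2 * j + 1) + 1 by ring, pow_succ, mul_left_comm]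
  refine Nat.mul_le_mul_left _ ?_
  have := τ.mul_ge K hZ
  have := τ.T2_pos K
  omega

/-- A fixed point. -/
theorem fixed_ge {j : ℕ} (hj : 1 ≤ j) (hd : finrank F V = 2 * j + 3) (hIH : Below.{uF, uV} θ j)
    (hS : τ.Sb K ≠ ⊤) :
    Nat.card (Herm.fixField θ) ^ 2 * Nc (Nat.card (Herm.fixField θ)) j ≤ K.relIndex τ.P := by
  classical
  have : Finite τ.W := Module.finite_of_finite F
  have := finite_su (B := τ.BW)
  have hdW : finrank F τ.W = 2 * j + 1 := by have := τ.finrank_W; omega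
  rw [τ.relIndex_P K (by omega)]
  set i := (τ.I1 K).index with hid
  set w := (τ.Sb K).index with hwd
  have hz1 : 1 ≤ (τ.Zp K).index := Nat.pos_of_ne_zero AddSubgroup.index_ne_zero_of_finite
  suffices Nat.card (Herm.fixField θ) ^ 2 * Nc (Nat.card (Herm.fixField θ)) j ≤ i * w by
    calc _ ≤ 1 * (i * (w * 1)) := by rw [one_mul, mul_one]; exact this
      _ ≤ _ := by gcongr; exact τ.T2_pos K
  have hq := two_le_fix τ.hB.toIsInvol
  set q := Nat.card (Herm.fixField θ) with hqd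
  have hq4 : 4 ≤ q ^ 2 := by nlinarith
  have hC0 : q ^ 2 * Nc q j = Nc q j * (q ^ 2 - 1) + Nc q j := by
    rw [Nat.mul_sub, mul_one, Nat.sub_add_cancel (Nat.le_mul_of_pos_right _ (by omega)), mul_comm]
  obtain ⟨U, hUc, hUinv⟩ := τ.exists_annih K
  rw [← hwd] at hUc
  have hU0 : U ≠ ⊥ := fun h0 => hS (AddSubgroup.index_eq_one.1 (by rw [← hwd, ← hUc, h0, AddSubgroup.card_bot]))
  by_cases hI : τ.I1 K = ⊤
  · rw [show i = 1 by rw [hid, hI, Subgroup.index_top], one_mul, ← hUc, hC0]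
    refine le_trans ?_ (card_invariant_ge τ.hB_W hj hdW U (fun g x hx => hUinv g (hI ▸ Subgroup.mem_top g) x hx) hU0)
    have : Nc q j ≤ Nc q j * (q ^ 2 - 1) := Nat.le_mul_of_pos_right _ (by omega)
    rw [← hqd]
    omega
  have hN : 2 ≤ j → Nc q j ≤ i := fun hj2 => hIH hj2 τ.W τ.BW τ.hB_W hdW _ hI
  have horb : ∀ u ∈ U, u ≠ 0 → (∀ x z : τ.W, x ≠ 0 → z ≠ 0 → τ.BW x x = τ.BW u u → τ.BW z z = τ.BW u u →
      ∃ g : Herm.suG τ.BW, g.1 x = z) →
      Nat.card {x : τ.W // x ≠ 0 ∧ τ.BW x x = τ.BW u u} + i ≤ i * w := by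
    intro u hu hu0 htr
    have h1 := orbit_count (B := τ.BW) (C := {x | x ≠ 0 ∧ τ.BW x x = τ.BW u u}) (U := (U : Set τ.W))
      (fun g x hx => norm_inv _ g hx) (fun x hx z hz => htr x z hx.1 hz.1 hx.2 hz.2) (τ.I1 K) hUinv
      ⟨u, hu, hu0, rfl⟩
    have h2 : Nat.card ↥((U : Set τ.W) ∩ {x | x ≠ 0 ∧ τ.BW x x = τ.BW u u}) + 1 ≤ w := by
      rw [← hUc, ← Finite.card_option]
      refine Nat.card_le_card_of_injective (fun o => o.elim (0 : U) fun x => ⟨x.1, x.2.1⟩) ?_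
      rintro (_ | x) (_ | z) e
      · rfl
      · exact absurd (congrArg Subtype.val e).symm z.2.2.1
      · exact absurd (congrArg Subtype.val e) x.2.2.1
      · exact congrArg some (Subtype.ext (congrArg (fun z : U => (z : τ.W)) e))
    refine (Nat.add_le_add_right h1 i).trans ?_
    rw [← Nat.mul_succ]
    exact Nat.mul_le_mul_left _ h2
  by_cases hA : ∃ u ∈ U, τ.BW u u ≠ 0
  · obtain ⟨u, hu, huu⟩ := hA
    have hu0 : u ≠ 0 := fun h0 => huu (by simp [h0])
    have h1 := horb u hu hu0 fun x z _ _ hx hz => trans_aniso τ.hB_W (by omega) (by rw [hz]; exact huu)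
      (hx.trans hz.symm)
    rw [Nat.card_congr (Equiv.subtypeEquivRight (q := fun x : τ.W => τ.BW x x = τ.BW u u) fun x =>
        ⟨fun hx => hx.2, fun hx => ⟨fun h0 => huu (by rw [← hx, h0]; simp), hx⟩⟩),
      card_aniso τ.hB_W hdW ⟨j, rfl⟩ (Herm.fix_self τ.hB_W u) huu, ← hqd,
      show 2 * j + 1 - 1 = 2 * j by omega] at h1
    have h2 : Nc q j * (q ^ 2 - 1) + (q ^ (2 * j + 1) + 1) ≤ q ^ (2 * j) * (q ^ (2 * j + 1) + 1) := by
      rw [Nc_mul q j (by omega), ← Nat.mul_succ, mul_comm (q ^ (2 * j))]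
      refine Nat.mul_le_mul_left _ ?_
      have : 1 ≤ q ^ (2 * j) := Nat.one_le_pow _ _ (by omega)
      omega
    rw [hC0]
    rcases Nat.lt_or_ge j 2 with hj1 | hj2
    · obtain rfl : j = 1 := by omega
      simp only [Nc_one, show 2 * 1 + 1 = 3 from rfl] at h1 h2 ⊢
      omega
    · have := hN hj2
      omega
  push Not at hA
  obtain ⟨u, hu, hu0⟩ : ∃ u ∈ U, u ≠ 0 := by
    by_contra hc; push Not at hc; exact hU0 ((AddSubgroup.eq_bot_iff_forall _).2 hc)
  have h1 := horb u hu hu0 fun x z hx0 hz0 hx hz =>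
    trans_iso τ.hB_W (by omega) hx0 (hx.trans (hA u hu)) hz0 (hz.trans (hA u hu))
  rw [hA u hu, card_iso τ.hB_W hdW ⟨j, rfl⟩, ← hqd, show 2 * j + 1 - 1 = 2 * j by omega,
    ← Nc_mul q j (by omega)] at h1
  rw [hC0]
  rcases Nat.lt_or_ge j 2 with hj1 | hj2
  · obtain rfl : j = 1 := by omega
    have hwle : w ≤ q ^ 2 := hUc ▸ card_le_of_iso (by omega) U τ.hB_W hA
    have h3 : Nc q 1 * (q ^ 2 - 1) + i ≤ i * q ^ 2 := h1.trans (Nat.mul_le_mul_left _ hwle)
    have h4 : Nc q 1 ≤ i := by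
      refine Nat.le_of_mul_le_mul_right ?_ (show 0 < q ^ 2 - 1 by omega)
      rw [Nat.mul_sub i, mul_one]
      omega
    omega
  · have := hN hj2
    omega

end Fr

end Cfsg.Agent.MinIndexForm.SU
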