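import Cfsg.Agent.MinIndexForm.SU.Root

/-!
The number of isotropic points, generation by transvection groups, and the double count between points and cosets.
-/

set_option autoImplicit false

namespace Cfsg.Agent.MinIndexForm.SU

open Cfsg.Agent.Classical Module

/-- Double counting of incidences between two coset spaces. -/
theorem double_count {G : Type*} [Group G] [Finite G] (H P : Subgroup G) (R : G → Prop)
    (hl : ∀ h ∈ H, ∀ g, R (h * g) ↔ R g) (hr : ∀ k ∈ P, ∀ g, R (g * k) ↔ R g) :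
    H.index * Nat.card {p : G ⧸ P // R p.out} = P.index * Nat.card {x : G ⧸ H // R x.out⁻¹} := by
  classical
  have : Fintype (G ⧸ H) := Fintype.ofFinite _
  have : Fintype (G ⧸ P) := Fintype.ofFinite _
  have key1 : ∀ x : G ⧸ H, Nat.card {p : G ⧸ P // R (x.out⁻¹ * p.out)} = Nat.card {p : G ⧸ P // R p.out} := by
    intro x
    refine Nat.card_congr ((MulAction.toPerm (x.out⁻¹)).subtypeEquiv fun p => ?_)
    obtain ⟨k, hk⟩ := QuotientGroup.mk_out_eq_mul P (x.out⁻¹ * p.out)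
    have e : (MulAction.toPerm (x.out⁻¹)) p = ((x.out⁻¹ * p.out : G) : G ⧸ P) := by
      conv_lhs => rw [← p.out_eq]
      rfl
    rw [e, hk, hr k k.2]
  have key2 : ∀ p : G ⧸ P, Nat.card {x : G ⧸ H // R (x.out⁻¹ * p.out)} = Nat.card {x : G ⧸ H // R x.out⁻¹} := by
    intro p
    refine Nat.card_congr ((MulAction.toPerm (p.out⁻¹)).subtypeEquiv fun x => ?_)
    obtain ⟨k, hk⟩ := QuotientGroup.mk_out_eq_mul H (p.out⁻¹ * x.out)
    have e : (MulAction.toPerm (p.out⁻¹)) x = ((p.out⁻¹ * x.out : G) : G ⧸ H) := by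
      conv_lhs => rw [← x.out_eq]
      rfl
    rw [e, hk, mul_inv_rev, hl _ (inv_mem k.2), mul_inv_rev, inv_inv]
  have e1 : Nat.card {z : (G ⧸ H) × (G ⧸ P) // R (z.1.out⁻¹ * z.2.out)} =
      H.index * Nat.card {p : G ⧸ P // R p.out} := by
    rw [Nat.card_congr (Equiv.subtypeProdEquivSigmaSubtype fun (x : G ⧸ H) (p : G ⧸ P) => R (x.out⁻¹ * p.out)), Nat.card_sigma]
    simp only [key1, Finset.sum_const, Finset.card_univ, smul_eq_mul, Subgroup.index, Nat.card_eq_fintype_card]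
  have e2 : Nat.card {z : (G ⧸ H) × (G ⧸ P) // R (z.1.out⁻¹ * z.2.out)} =
      P.index * Nat.card {x : G ⧸ H // R x.out⁻¹} := by
    let e : {z : (G ⧸ H) × (G ⧸ P) // R (z.1.out⁻¹ * z.2.out)} ≃
        (p : G ⧸ P) × {x : G ⧸ H // R (x.out⁻¹ * p.out)} :=
      { toFun := fun z => ⟨z.1.2, z.1.1, z.2⟩
        invFun := fun w => ⟨(w.2.1, w.1), w.2.2⟩
        left_inv := fun z => rfl
        right_inv := fun w => rfl }
    rw [Nat.card_congr e, Nat.card_sigma]
    simp only [key2, Finset.sum_const, Finset.card_univ, smul_eq_mul, Subgroup.index, Nat.card_eq_fintype_card]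
  exact e1.symm.trans e2

/-- The number of isotropic points in dimension 2j + 1. -/
def Nc (q j : ℕ) : ℕ := (q ^ (2 * j + 1) + 1) * ∑ i ∈ Finset.range j, (q ^ 2) ^ i

theorem Nc_one (q : ℕ) : Nc q 1 = q ^ 3 + 1 := by simp [Nc]

theorem Nc_mul (q j : ℕ) (hq : 1 ≤ q) : Nc q j * (q ^ 2 - 1) = (q ^ (2 * j + 1) + 1) * (q ^ (2 * j) - 1) := by
  have h : (∑ i ∈ Finset.range j, (q ^ 2) ^ i) * (q ^ 2 - 1) + 1 = q ^ (2 * j) := by
    obtain ⟨r, hr⟩ : ∃ r, q ^ 2 = r + 1 := ⟨q ^ 2 - 1, by have := Nat.one_le_pow 2 q hq; omega⟩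
    rw [pow_mul, hr, Nat.add_sub_cancel, geom_sum_mul_add]
  rw [Nc, mul_assoc]
  congr 1
  omega

theorem Nc_succ (q j : ℕ) (hq : 2 ≤ q) : Nc q (j + 1) = q ^ 2 * Nc q j + q ^ (4 * j + 3) + 1 := by
  have hq2 : 1 ≤ q ^ 2 := Nat.one_le_pow _ _ (by omega)
  obtain ⟨r, hr⟩ : ∃ r, q ^ 2 = r + 1 := ⟨q ^ 2 - 1, by omega⟩
  have h : (∑ i ∈ Finset.range j, (q ^ 2) ^ i) * r + 1 = q ^ (2 * j) := by
    rw [pow_mul, hr, geom_sum_mul_add]
  rw [Nc, Nc, geom_sum_succ, show q ^ (2 * (j + 1) + 1) = q ^ (2 * j) * q * q ^ 2 by ring,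
    show q ^ (2 * j + 1) = q ^ (2 * j) * q by ring,
    show q ^ (4 * j + 3) = q ^ (2 * j) * q ^ (2 * j) * q * q ^ 2 by ring, ← h]
  generalize (∑ i ∈ Finset.range j, (q ^ 2) ^ i) = S
  rw [hr]
  ring

theorem index_center_quotient {G : Type*} [Group G] {K : Subgroup G} (hK : Subgroup.center G ≤ K) :
    (K.map (QuotientGroup.mk' (Subgroup.center G))).index = K.index :=
  Subgroup.index_map_eq _ (QuotientGroup.mk'_surjective _) (by rw [QuotientGroup.ker_mk']; exact hK)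

universe uF uV
variable {F : Type uF} {V : Type uV} [Field F] [AddCommGroup V] [Module F V] {θ : F →+* F}
  {B : V →ₛₗ[θ] V →ₗ[F] F} [Finite F] [FiniteDimensional F V]

/-- The subgroup containing every transvection is everything. -/
theorem eq_top_of_roots (h : Herm.IsHerm B) (hn : 3 ≤ finrank F V)
    (hr : (∃ r : F, θ r = r ∧ r ≠ 0 ∧ r ≠ 1) ∨ finrank F V ≠ 3) {H : Subgroup (Herm.suG B)}
    (hH : ∀ v : V, v ≠ 0 → B v v = 0 → HasRoot H v) : H = ⊤ := by
  have hle : Herm.TUon B ⊤ ≤ H.map (Herm.suG B).subtype := by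
    refine (Subgroup.closure_le _).2 ?_
    rintro t ⟨v, -, c, hv, hc, ht⟩
    have htm : t ∈ Herm.suG B := (LinearEquiv.ext fun x => ht x : t = Herm.tvU hv c) ▸ Herm.tvU_mem h hv hc
    refine ⟨⟨t, htm⟩, ?_, rfl⟩
    rcases eq_or_ne v 0 with rfl | hv0
    · have h1 : (⟨t, htm⟩ : Herm.suG B) = 1 := Subtype.ext (LinearEquiv.ext fun x => by simp [ht])
      rw [h1]; exact H.one_mem
    · exact hH v hv0 hv _ ⟨c, hc, ht⟩
  rw [Herm.suG_eq_TUon h (by omega) hr] at hle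
  rw [eq_top_iff]
  intro g _
  obtain ⟨g', hg', e⟩ := hle g.2
  exact (Subtype.ext e : g' = g) ▸ hg'

theorem index_P1 (τ : Fr B) (hn : 3 ≤ finrank F V) :
    τ.P1.index = Nat.card {x : V // x ≠ 0 ∧ B x x = 0} := by
  have : Finite V := Module.finite_of_finite F
  have := Fr.finite_su (B := B)
  let f : Herm.suG B ⧸ τ.P1 → {x : V // x ≠ 0 ∧ B x x = 0} :=
    fun x => ⟨x.out.1 τ.y, norm_inv 0 x.out ⟨τ.y_ne, τ.hyy⟩⟩
  rw [Subgroup.index]
  refine Nat.card_congr (Equiv.ofBijective f ⟨fun x x' e => ?_, fun z => ?_⟩)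
  · rw [← x.out_eq, ← x'.out_eq]
    refine QuotientGroup.eq.2 (τ.mem_P1.2 ?_)
    have e' : x.out.1 τ.y = x'.out.1 τ.y := congrArg Subtype.val e
    rw [Subgroup.coe_mul, LinearEquiv.mul_apply, ← e', ← LinearEquiv.mul_apply, ← Subgroup.coe_mul, inv_mul_cancel]
    rfl
  · obtain ⟨g, hg⟩ := trans_iso τ.hB hn τ.y_ne τ.hyy z.2.1 z.2.2
    obtain ⟨k, hk⟩ := QuotientGroup.mk_out_eq_mul τ.P1 g
    exact ⟨g, Subtype.ext (by
      show (Quotient.out (g : Herm.suG B ⧸ τ.P1)).1 τ.y = z.1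
      rw [hk, Subgroup.coe_mul, LinearEquiv.mul_apply, τ.mem_P1.1 k.2, hg])⟩

/-- The number of isotropic points. -/
theorem index_P (τ : Fr B) (j : ℕ) (hd : finrank F V = 2 * j + 1) (hj : 1 ≤ j) :
    τ.P.index = Nc (Nat.card (Herm.fixField θ)) j := by
  have := Fr.finite_su (B := B)
  have hθ := τ.hB.toIsInvol
  set q := Nat.card (Herm.fixField θ) with hq
  have h2 : 2 ≤ q := two_le_fix hθ
  have hrel : τ.P1.relIndex τ.P = Nat.card Fˣ := by
    have hker : τ.P1.subgroupOf τ.P = τ.aHom.ker := by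
      ext g
      rw [Subgroup.mem_subgroupOf, MonoidHom.mem_ker, τ.aHom_apply]
      refine ⟨fun hg => τ.aval_eq (by rw [τ.mem_P1] at hg; simpa using hg), fun hg => ?_⟩
      have := τ.aval_spec g
      rw [hg, Units.val_one, one_smul] at this
      exact this
    rw [Subgroup.relIndex, hker, Subgroup.index_ker,
      MonoidHom.range_eq_top.2 (τ.aHom_surjective (by omega)), Subgroup.card_top]
  have h := Subgroup.relIndex_mul_index τ.P1_le_P
  have hci := card_iso τ.hB hd ⟨j, rfl⟩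
  rw [hrel, index_P1 τ (by omega), hci] at h
  have hu := card_units_sq hθ
  rw [← hq, show 2 * j + 1 - 1 = 2 * j by omega, ← Nc_mul q j (by omega),
    show Nat.card Fˣ = q ^ 2 - 1 by rw [← hq] at hu; omega, mul_comm] at h
  have h4 : 2 ^ 2 ≤ q ^ 2 := Nat.pow_le_pow_left h2 2
  exact Nat.eq_of_mul_eq_mul_right (by omega) h

theorem center_le_P (τ : Fr B) : Subgroup.center (Herm.suG B) ≤ τ.P := fun g hg => by
  have h := Herm.center_fix_iso τ.hB hg (Herm.pt τ.y τ.y_ne τ.hyy)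
  rw [Herm.smul_pt, Herm.pt_eq_iff] at h
  obtain ⟨a, ha⟩ := h
  have ha0 : a ≠ 0 := fun h0 => τ.y_ne (g.1.map_eq_zero_iff.1 (by rw [← ha, h0, zero_smul]))
  exact ⟨Units.mk0 a ha0, ha.symm⟩

end Cfsg.Agent.MinIndexForm.SU
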