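import Cfsg.Agent.MinIndexForm.SU.Scalars
import Cfsg.Agent.MinIndexForm.SU.Classes

/-!
If the Levi image at a moved point is everything, the subgroup contains two non-orthogonal transvection groups.
-/

set_option autoImplicit false

namespace Cfsg.Agent.MinIndexForm.SU

open Cfsg.Agent.Classical Module
open scoped commutatorElement

universe uF uV
variable {F : Type uF} {V : Type uV} [Field F] [AddCommGroup V] [Module F V] {θ : F →+* F}
  {B : V →ₛₗ[θ] V →ₗ[F] F}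

/-- The subgroup contains all transvections along the vector. -/
def HasRoot (H : Subgroup (Herm.suG B)) (a : V) : Prop :=
  ∀ g : Herm.suG B, (∃ c, c + θ c = 0 ∧ ∀ x, g.1 x = x + (c * B a x) • a) → g ∈ H

/-- A conjugate subgroup. -/
def conjS (g : Herm.suG B) (H : Subgroup (Herm.suG B)) : Subgroup (Herm.suG B) :=
  H.map (MulAut.conj g).toMonoidHom

theorem mem_conjS {g x : Herm.suG B} {H : Subgroup (Herm.suG B)} : x ∈ conjS g H ↔ g⁻¹ * x * g ∈ H := by
  rw [conjS, Subgroup.mem_map_equiv, MulAut.conj_symm_apply]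

theorem index_conjS (g : Herm.suG B) (H : Subgroup (Herm.suG B)) : (conjS g H).index = H.index :=
  Subgroup.index_map_equiv H (MulAut.conj g)

theorem hasRoot_of_conjS {g : Herm.suG B} {H : Subgroup (Herm.suG B)} {a : V} (h : HasRoot (conjS g H) a) :
    HasRoot H ((g⁻¹).1 a) := by
  rintro t ⟨c, hc, ht⟩
  have hga : g.1 ((g⁻¹).1 a) = a := by
    rw [← LinearEquiv.mul_apply, ← Subgroup.coe_mul, mul_inv_cancel]; rfl
  have h1 : g * t * g⁻¹ ∈ conjS g H := h _ ⟨c, hc, fun x => by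
    rw [Subgroup.coe_mul, Subgroup.coe_mul, LinearEquiv.mul_apply, LinearEquiv.mul_apply, ht, map_add, map_smul,
      ← g.2.1 ((g⁻¹).1 a), hga, ← LinearEquiv.mul_apply, ← Subgroup.coe_mul, mul_inv_cancel]
    rfl⟩
  rw [mem_conjS] at h1
  simpa [mul_assoc] using h1

variable [Finite F] [FiniteDimensional F V]

theorem exists_diag (h : Herm.IsHerm B) {n : ℕ} (hn : finrank F V = n) (δ : Fin n → F)
    (hδ : ∀ i, δ i * θ (δ i) = 1) :
    ∃ (b : Basis (Fin n) F V) (g : V ≃ₗ[F] V), Herm.IsON B b ∧ (∀ x z, B (g x) (g z) = B x z) ∧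
      (∀ i, g (b i) = δ i • b i) ∧ (LinearEquiv.det g : F) = ∏ i, δ i := by
  subst hn
  obtain ⟨b, hb⟩ := Herm.exists_orthonormal h
  have h0 : ∀ i, δ i ≠ 0 := fun i => left_ne_zero_of_mul_eq_one (hδ i)
  let b' := b.unitsSMul fun i => Units.mk0 (δ i) (h0 i)
  have hb' : ∀ i, b' i = δ i • b i := fun i => by simp [b', Basis.unitsSMul_apply, Units.smul_def]
  let g := b.equiv b' (Equiv.refl _)
  have hg : ∀ i, g (b i) = δ i • b i := fun i => by
    simp [g, hb']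
  refine ⟨b, g, hb, Herm.isometry_of_basis b b' fun i j => ?_, hg, Herm.det_unit_norm h g hb rfl δ hg⟩
  rw [hb', hb', map_smul, map_smulₛₗ, LinearMap.smul_apply, smul_eq_mul, smul_eq_mul, hb i j]
  split_ifs with hij
  · subst hij; rw [mul_one, mul_comm (δ i), mul_comm, hδ]
  · rw [mul_zero, mul_zero]

omit [Finite F] [FiniteDimensional F V] in
theorem pow_apply_eig {g : V ≃ₗ[F] V} {v : V} {a : F} (hv : g v = a • v) (k : ℕ) : (g ^ k) v = a ^ k • v := by
  induction k with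
  | zero => simp
  | succ k ih => rw [pow_succ, LinearEquiv.mul_apply, hv, map_smul, ih, smul_smul, pow_succ, mul_comm]

omit [Finite F] [FiniteDimensional F V] in
/-- A diagonal map without eigenvalue one has no fixed vector. -/
theorem fixfree_diag {n : ℕ} (b : Basis (Fin n) F V) {g : V →ₗ[F] V} {δ : Fin n → F}
    (hg : ∀ i, g (b i) = δ i • b i) (hδ : ∀ i, δ i ≠ 1) {x : V} (hx : g x = x) : x = 0 := by
  have key : ∀ x, ∀ i, b.repr (g x) i = δ i * b.repr x i := fun x i => by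
    conv_lhs => rw [← b.sum_repr x]
    simp only [map_sum, map_smul, hg, Finsupp.coe_finset_sum, Finset.sum_apply, Finsupp.coe_smul, Pi.smul_apply,
      Basis.repr_self, smul_eq_mul]
    rw [Finset.sum_eq_single i (fun k _ hk => by rw [Finsupp.single_eq_of_ne hk.symm]; ring) (by simp),
      Finsupp.single_eq_same]
    ring
  refine b.ext_elem fun i => ?_
  have h1 := key x i
  rw [hx] at h1
  rw [map_zero]
  have h2 : (δ i - 1) * b.repr x i = 0 := by linear_combination -h1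
  exact (mul_eq_zero.1 h2).resolve_left (sub_ne_zero.2 (hδ i))

theorem eichler_comm (h : Herm.IsHerm B) {v a : V} (hv : B v v = 0) (hav : B a v = 0) (haa : B a a = 1) {c : F}
    (hc : c + θ c = 0) :
    ∃ μ d₁ d₂ : F, ∃ (hbv : B (μ • a) v = 0) (hd₁ : d₁ + θ d₁ = -B a a) (hd₂ : d₂ + θ d₂ = -B (μ • a) (μ • a)),
      (⁅(⟨_, Herm.eichler_mem h hv hav hd₁⟩ : Herm.suG B), ⟨_, Herm.eichler_mem h hv hbv hd₂⟩⁆ : Herm.suG B).1 =
        Herm.tvU hv c := by
  obtain ⟨μ, hμ⟩ := Herm.exists_antitrace h.toIsInvol (k := c) (by linear_combination hc)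
  obtain ⟨d₁, hd₁⟩ := Herm.exists_trace h.toIsInvol (a := -B a a) (by rw [map_neg, Herm.fix_self h])
  obtain ⟨d₂, hd₂⟩ := Herm.exists_trace h.toIsInvol (a := -B (μ • a) (μ • a)) (by rw [map_neg, Herm.fix_self h])
  have hbv : B (μ • a) v = 0 := by simp [hav]
  refine ⟨μ, d₁, d₂, hbv, hd₁, hd₂, ?_⟩
  set p := Herm.eichler h hv hav d₁
  set q := Herm.eichler h hv hbv d₂
  have key : p * q = Herm.tvU hv c * (q * p) := by
    have hva : B v a = 0 := (Herm.eq_zero_comm h).1 hav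
    ext x
    simp only [p, q, LinearEquiv.mul_apply, Herm.eichler_apply, Herm.tvU_apply, map_add, map_smulₛₗ,
      LinearMap.smul_apply, smul_eq_mul, RingHom.id_apply, hv, hva, hav, haa, mul_zero, add_zero, mul_one]
    rw [← hμ]
    match_scalars <;> ring
  simp only [commutatorElement_def, Subgroup.coe_mul, Subgroup.coe_inv]
  rw [key]
  show Herm.tvU hv c * (q * p) * p⁻¹ * q⁻¹ = _
  rw [← mul_assoc, mul_inv_cancel_right, mul_inv_cancel_right]

omit [Finite F] [FiniteDimensional F V] in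
theorem eichler_commute (h : Herm.IsHerm B) {g : V ≃ₗ[F] V} (hg : ∀ x z, B (g x) (g z) = B x z) {v a : V} {ω : F}
    (hω : ω * θ ω = 1) (hgv : g v = ω • v) (hga : g a = ω • a) (hv : B v v = 0) (hav : B a v = 0) (d : F) :
    g * Herm.eichler h hv hav d = Herm.eichler h hv hav d * g := by
  ext x
  have e1 : B v (g x) = ω * B v x := by
    have := hg v x
    rw [hgv, map_smulₛₗ, LinearMap.smul_apply, smul_eq_mul] at this
    linear_combination ω * this - B v (g x) * hω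
  have e2 : B a (g x) = ω * B a x := by
    have := hg a x
    rw [hga, map_smulₛₗ, LinearMap.smul_apply, smul_eq_mul] at this
    linear_combination ω * this - B a (g x) * hω
  simp only [LinearEquiv.mul_apply, Herm.eichler_apply, map_add, map_smul, hgv, hga, e1, e2]
  module

namespace Fr

variable (τ : Fr B) {K : Subgroup (Herm.suG B)}

theorem emb_sh (l : Herm.suG τ.BW) (u : τ.W) (c : F) (hc : c + θ c = -B (u : V) (u : V)) :
    ∃ hc', τ.emb l * τ.sh u c hc = τ.sh (l.1 u) c hc' * τ.emb l := by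
  have hl := l.2.1 u u
  rw [τ.BW_apply, τ.BW_apply] at hl
  refine ⟨by rw [hl]; exact hc, Subtype.ext (τ.ext_frame ?_ ?_ fun w => ?_)⟩
  · simp [LinearEquiv.mul_apply, sh_y, emb_y]
  · simp [LinearEquiv.mul_apply, sh_f, emb_f, emb_y, emb_W]
  · have e := l.2.1 u w
    rw [τ.BW_apply, τ.BW_apply] at e
    simp [LinearEquiv.mul_apply, sh_W, emb_W, emb_y, e]

theorem tvc_comm_emb (l : Herm.suG τ.BW) (c : skew θ) : τ.emb l * τ.tvc c = τ.tvc c * τ.emb l := by
  obtain ⟨hc', e⟩ := τ.emb_sh l 0 c (τ.skew_cond c.2)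
  rw [tvc, e]
  congr 1
  exact τ.sh_congr (map_zero _) rfl

theorem tvc_comm_sh (u : τ.W) (c : F) (hc : c + θ c = -B (u : V) (u : V)) (d : skew θ) :
    τ.tvc d * τ.sh u c hc = τ.sh u c hc * τ.tvc d := by
  rw [tvc, τ.sh_mul, τ.sh_mul]
  exact τ.sh_congr (by rw [zero_add, add_zero]) (by simp; ring)

theorem exists_lift {l : Herm.suG τ.BW} (hl : l ∈ τ.I1 K) : ∃ u c hc, τ.emb l * τ.sh u c hc ∈ K := by
  obtain ⟨g, hg, rfl⟩ := (τ.mem_I1 K).1 hl
  set g' : τ.P1 := (⟨τ.emb (τ.lam g), τ.emb_y _⟩ : τ.P1)⁻¹ * g with hg'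
  have h1 : τ.lam g' = 1 := by rw [hg', map_mul, map_inv, τ.lam_emb, inv_mul_cancel]
  obtain ⟨hc, e⟩ := τ.eq_sh h1
  refine ⟨_, _, hc, ?_⟩
  rw [← e, hg']
  simpa using hg

theorem lift_unique (hS : τ.Sb K = ⊥) {l : Herm.suG τ.BW} {u u' : τ.W} {c c' : F}
    {hc : c + θ c = -B (u : V) (u : V)} {hc' : c' + θ c' = -B (u' : V) (u' : V)}
    (h : τ.emb l * τ.sh u c hc ∈ K) (h' : τ.emb l * τ.sh u' c' hc' ∈ K) : u = u' := by
  have hm := K.mul_mem (K.inv_mem h) h'
  rw [mul_inv_rev, mul_assoc, inv_mul_cancel_left, τ.sh_inv, τ.sh_mul] at hm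
  have : -u + u' ∈ τ.Sb K := ⟨_, _, hm⟩
  rw [hS, AddSubgroup.mem_bot, neg_add_eq_zero] at this
  exact this

variable (hS : τ.Sb K = ⊥) (hI : τ.I1 K = ⊤) {h : Herm.suG τ.BW} {c0 : skew θ} (hh : τ.emb h * τ.tvc c0 ∈ K)
include hS hI hh

omit hI in
theorem conj_lift {l : Herm.suG τ.BW} {u : τ.W} {c : F} {hc : c + θ c = -B (u : V) (u : V)}
    (hm : τ.emb l * τ.sh u c hc ∈ K) : ∃ hc', τ.emb (h * l * h⁻¹) * τ.sh (h.1 u) c hc' ∈ K := by
  obtain ⟨hc', e⟩ := τ.emb_sh h u c hc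
  refine ⟨hc', ?_⟩
  have hk := K.mul_mem (K.mul_mem hh hm) (K.inv_mem hh)
  have key : τ.emb h * τ.tvc c0 * (τ.emb l * τ.sh u c hc) * (τ.emb h * τ.tvc c0)⁻¹ =
      τ.emb (h * l * h⁻¹) * τ.sh (h.1 u) c hc' := by
    rw [mul_inv_eq_iff_eq_mul]
    calc τ.emb h * τ.tvc c0 * (τ.emb l * τ.sh u c hc)
        = τ.emb h * τ.emb l * τ.sh u c hc * τ.tvc c0 := by
          rw [mul_assoc (τ.emb h), ← mul_assoc (τ.tvc c0), ← τ.tvc_comm_emb, mul_assoc (τ.emb l),
            τ.tvc_comm_sh]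
          simp only [mul_assoc]
      _ = τ.emb (h * l * h⁻¹) * (τ.emb h * τ.sh u c hc) * τ.tvc c0 := by
          rw [map_mul, map_mul, map_inv]; group
      _ = _ := by rw [e]; simp only [mul_assoc]
  rwa [key] at hk

/-- A transvection group inside the Levi part, when the norm of the eigenvalue moves it. -/
theorem root_of_eig (hfree : ∀ u : τ.W, (h.1 ^ (Nat.card (Herm.fixField θ) - 1)) u = u → u = 0)
    {v : τ.W} (hv : B (v : V) (v : V) = 0) {b : F} (hhv : h.1 v = b • v) (hb : b * θ b ≠ 1) (hb0 : b ≠ 0) :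
    HasRoot K (v : V) := by
  have hvW : τ.BW v v = 0 := hv
  have hNr : θ (b * θ b) = b * θ b := by rw [map_mul, τ.hB.invol, mul_comm]
  let T : skew θ → Herm.suG τ.BW := fun r => ⟨Herm.tvU hvW r, Herm.tvU_mem τ.hB_W hvW r.2⟩
  have hskew : ∀ r : skew θ, b * θ b * (r : F) ∈ skew θ := fun r => by
    rw [mem_skew, map_mul, hNr]; linear_combination (b * θ b) * mem_skew.1 r.2
  have hconj : ∀ r : skew θ, h * T r * h⁻¹ = T ⟨_, hskew r⟩ := fun r => by
    rw [mul_inv_eq_iff_eq_mul]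
    refine Subtype.ext (LinearEquiv.ext fun x => ?_)
    show h.1 (Herm.tvU hvW r x) = Herm.tvU hvW (b * θ b * (r : F)) (h.1 x)
    rw [Herm.tvU_apply, Herm.tvU_apply, map_add, map_smul, hhv, smul_smul, ← h.2.1 v x, hhv,
      map_smulₛₗ, LinearMap.smul_apply, smul_eq_mul]
    congr 2
    ring
  have hl := fun r : skew θ => τ.exists_lift (l := T r) (hI ▸ Subgroup.mem_top _)
  choose u c hc hm using hl
  have hu : ∀ r, u ⟨_, hskew r⟩ = h.1 (u r) := fun r => by
    obtain ⟨hc', h'⟩ := τ.conj_lift hS hh (hm r)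
    rw [hconj] at h'
    exact τ.lift_unique hS (hm _) h'
  have hu0 : ∀ r, u r = 0 := fun r => by
    refine hfree _ ?_
    have hiter : ∀ k : ℕ, ∀ hk : (b * θ b) ^ k * (r : F) ∈ skew θ, u ⟨_, hk⟩ = (h.1 ^ k) (u r) := by
      intro k
      induction k with
      | zero => intro hk; simp
      | succ k ih =>
        intro hk
        have hk' : (b * θ b) ^ k * (r : F) ∈ skew θ := by
          rw [mem_skew, map_mul, map_pow, hNr]; linear_combination (b * θ b) ^ k * mem_skew.1 r.2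
        rw [show (⟨_, hk⟩ : skew θ) = ⟨_, hskew ⟨_, hk'⟩⟩ from Subtype.ext (by
          show (b * θ b) ^ (k + 1) * (r : F) = b * θ b * ((b * θ b) ^ k * (r : F))
          ring), hu, ih hk', pow_succ' h.1, LinearEquiv.mul_apply]
    have h1 : (b * θ b) ^ (Nat.card (Herm.fixField θ) - 1) = 1 :=
      pow_fix τ.hB.toIsInvol hNr (mul_ne_zero hb0 ((map_ne_zero θ).2 hb0))
    rw [← hiter _ (by rw [h1, one_mul]; exact r.2)]
    exact congrArg u (Subtype.ext (show (b * θ b) ^ (Nat.card (Herm.fixField θ) - 1) * (r : F) = r by rw [h1, one_mul]))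
  have hc0 : ∀ r, c r + θ (c r) = 0 := fun r => by
    have := hc r
    rw [hu0 r] at this
    simpa using this
  have hmem : ∀ r, τ.emb (T r) * τ.tvc ⟨c r, hc0 r⟩ ∈ K := fun r => by
    convert hm r using 2
    exact τ.sh_congr (hu0 r).symm rfl
  rintro g ⟨r, hr, hg⟩
  obtain ⟨r', hr'⟩ : ∃ r' : skew θ, (r : F) = b * θ b * r' - r' := by
    refine ⟨⟨r / (b * θ b - 1), ?_⟩, ?_⟩
    · rw [mem_skew, map_div₀, map_sub, map_one, hNr, ← add_div, hr, zero_div]
    · show r = b * θ b * (r / (b * θ b - 1)) - r / (b * θ b - 1)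
      rw [← sub_one_mul, mul_div_cancel₀ _ (sub_ne_zero.2 hb)]
  obtain ⟨hc', h'⟩ := τ.conj_lift hS hh (l := T r') (u := 0) (c := c r')
    (hc := τ.skew_cond (hc0 r')) (hmem r')
  rw [hconj] at h'
  have h2 := K.mul_mem h' (K.inv_mem (hmem r'))
  have key : τ.emb (T ⟨_, hskew r'⟩) * τ.sh (h.1 0) (c r') hc' * (τ.emb (T r') * τ.tvc ⟨c r', hc0 r'⟩)⁻¹ = g := by
    rw [mul_inv_eq_iff_eq_mul, ← mul_assoc,
      show τ.sh (h.1 0) (c r') hc' = τ.tvc ⟨c r', hc0 r'⟩ from τ.sh_congr (map_zero _) rfl]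
    congr 1
    refine Subtype.ext (τ.ext_frame ?_ ?_ fun w => ?_)
    · simp [LinearEquiv.mul_apply, emb_y, hg, τ.Bwy]
    · simp [LinearEquiv.mul_apply, emb_f, hg, τ.Bwf]
    · rw [emb_W, Subgroup.coe_mul, LinearEquiv.mul_apply, emb_W, hg]
      show (Herm.tvU hvW (b * θ b * (r' : F)) w : V) = _
      simp [T, Herm.tvU_apply, hvW, hr', τ.BW_apply, hv]
      module
  rwa [key] at h2

/-- A transvection group inside the Levi part, for two scalars. -/
theorem root_of_commutator (hfree : ∀ u : τ.W, h.1 u = u → u = 0) {v a : τ.W} {ω : F} (hω : ω * θ ω = 1)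
    (hhv : h.1 v = ω • v) (hha : h.1 a = ω • a) (hv : τ.BW v v = 0) (hav : τ.BW a v = 0) (haa : τ.BW a a = 1) :
    HasRoot K (v : V) := by
  have hzero : ∀ l : Herm.suG τ.BW, h * l = l * h → ∃ c : skew θ, τ.emb l * τ.tvc c ∈ K := fun l hl => by
    obtain ⟨u, c, hc, hm⟩ := τ.exists_lift (l := l) (hI ▸ Subgroup.mem_top _)
    obtain ⟨hc', h'⟩ := τ.conj_lift hS hh hm
    rw [hl, mul_inv_cancel_right] at h'
    obtain rfl : u = 0 := hfree u (τ.lift_unique hS hm h').symm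
    exact ⟨⟨c, mem_skew.2 (by simpa using hc)⟩, hm⟩
  rintro g ⟨r, hr, hg⟩
  obtain ⟨μ, d₁, d₂, hbv, hd₁, hd₂, he⟩ := eichler_comm τ.hB_W hv hav haa hr
  set p : Herm.suG τ.BW := ⟨_, Herm.eichler_mem τ.hB_W hv hav hd₁⟩
  set p' : Herm.suG τ.BW := ⟨_, Herm.eichler_mem τ.hB_W hv hbv hd₂⟩
  obtain ⟨c, hm⟩ := hzero p (Subtype.ext (eichler_commute τ.hB_W h.2.1 hω hhv hha hv hav d₁))
  obtain ⟨c', hm'⟩ := hzero p' (Subtype.ext (eichler_commute τ.hB_W h.2.1 hω hhv
    (by rw [map_smul, hha, smul_comm]) hv hbv d₂))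
  have h2 := K.mul_mem (K.mul_mem (K.mul_mem hm hm') (K.inv_mem hm)) (K.inv_mem hm')
  have key : τ.emb p * τ.tvc c * (τ.emb p' * τ.tvc c') * (τ.emb p * τ.tvc c)⁻¹ * (τ.emb p' * τ.tvc c')⁻¹ =
      τ.emb ⁅p, p'⁆ := by
    have hcc : τ.tvc c * τ.tvc c' = τ.tvc c' * τ.tvc c := by rw [← τ.tvc_add, ← τ.tvc_add, add_comm]
    rw [mul_inv_eq_iff_eq_mul, mul_inv_eq_iff_eq_mul]
    calc τ.emb p * τ.tvc c * (τ.emb p' * τ.tvc c')
        = τ.emb p * τ.emb p' * (τ.tvc c' * τ.tvc c) := by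
          rw [mul_assoc, ← mul_assoc (τ.tvc c), ← τ.tvc_comm_emb, mul_assoc, hcc]
          simp only [mul_assoc]
      _ = τ.emb (⁅p, p'⁆ * p') * τ.emb p * (τ.tvc c' * τ.tvc c) := by
          rw [← map_mul, ← map_mul, commutatorElement_def]; congr 2; group
      _ = τ.emb ⁅p, p'⁆ * (τ.emb p' * τ.tvc c') * (τ.emb p * τ.tvc c) := by
          rw [map_mul]
          simp only [mul_assoc]
          rw [← mul_assoc (τ.emb p) (τ.tvc c'), τ.tvc_comm_emb]
          simp only [mul_assoc]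
  rw [key] at h2
  convert h2 using 1
  refine Subtype.ext (τ.ext_frame ?_ ?_ fun w => ?_)
  · rw [emb_y, hg]; simp [τ.Bwy]
  · rw [emb_f, hg]; simp [τ.Bwf]
  · rw [emb_W, hg, he]
    simp [Herm.tvU_apply, τ.BW_apply]

end Fr

end Cfsg.Agent.MinIndexForm.SU
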