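import Cfsg.Agent.MinIndexForm.SU.Invariants
import Mathlib.FieldTheory.Finite.Basic

/-!
Scalars of a field with an involution: squares of the fixed field, and elements with a generic conjugate quotient.
-/

set_option autoImplicit false

namespace Cfsg.Agent.MinIndexForm.SU

open Cfsg.Agent.Classical Module

universe uF
variable {F : Type uF} [Field F] [Finite F] {θ : F →+* F} (hθ : Herm.IsInvol θ)
include hθ

omit [Finite F] in
theorem real_pow {a : Fˣ} {n : ℕ} (h : θ (a : F) = a) : θ ((a : F) ^ n) = (a : F) ^ n := by rw [map_pow, h]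

theorem pow_fix {a : F} (ha : θ a = a) (ha0 : a ≠ 0) : a ^ (Nat.card (Herm.fixField θ) - 1) = 1 := by
  have : Fintype (Herm.fixField θ) := Fintype.ofFinite _
  have h := FiniteField.pow_card_sub_one_eq_one (⟨a, ha⟩ : Herm.fixField θ) fun h => ha0 (congrArg Subtype.val h)
  rw [← Nat.card_eq_fintype_card] at h
  exact congrArg Subtype.val h

theorem fix_of_pow {a : Fˣ} (h : a ^ (Nat.card (Herm.fixField θ) - 1) = 1) : θ (a : F) = a := by
  classical
  set q := Nat.card (Herm.fixField θ) with hq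
  have h2 := two_le_fix hθ
  have : Fintype F := Fintype.ofFinite F
  have : NeZero (q - 1) := ⟨by omega⟩
  let f : (Herm.fixField θ)ˣ → rootsOfUnity (q - 1) F := fun x => ⟨Units.map (Herm.fixField θ).subtype.toMonoidHom x, by
    rw [mem_rootsOfUnity, ← map_pow]
    have : x ^ (q - 1) = 1 := by
      have : Fintype (Herm.fixField θ) := Fintype.ofFinite _
      rw [hq, Nat.card_eq_fintype_card, ← Fintype.card_units]
      exact pow_card_eq_one
    rw [this, map_one]⟩
  have hinj : Function.Injective f := fun x y e => Units.ext (Subtype.ext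
    (congrArg (fun z : rootsOfUnity (q - 1) F => ((z : Fˣ) : F)) e))
  have hcard : Nat.card (rootsOfUnity (q - 1) F) ≤ Nat.card (Herm.fixField θ)ˣ := by
    rw [Nat.card_units, ← hq]
    exact card_rootsOfUnity F (q - 1)
  obtain ⟨x, hx⟩ := ((Function.Injective.bijective_of_nat_card_le hinj hcard).2 ⟨a, (mem_rootsOfUnity _ _).2 h⟩)
  have e : ((x : Herm.fixField θ) : F) = a := congrArg (fun z : rootsOfUnity (q - 1) F => ((z : Fˣ) : F)) hx
  rw [← e]
  exact (x : Herm.fixField θ).2

theorem exists_sqrt (h2 : (2 : F) = 0) {a : F} (ha : θ a = a) : ∃ r, θ r = r ∧ r ^ 2 = a := by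
  have : CharP F 2 := CharTwo.of_one_ne_zero_of_two_eq_zero one_ne_zero h2
  have hinj : Function.Injective fun r : Herm.fixField θ =>
      (⟨(r : F) ^ 2, by rw [Herm.mem_fixField, map_pow, Herm.mem_fixField.1 r.2]⟩ : Herm.fixField θ) :=
    fun r r' e => Subtype.ext (CharTwo.sq_inj.1 (congrArg Subtype.val e))
  obtain ⟨r, hr⟩ := (Finite.injective_iff_surjective.1 hinj) ⟨a, ha⟩
  exact ⟨r, r.2, congrArg Subtype.val hr⟩

/-- Two real quadratic terms reach every real value. -/
theorem exists_sum_sq {a b c : F} (ha : θ a = a) (hb : θ b = b) (hc : θ c = c) (ha0 : a ≠ 0) (hb0 : b ≠ 0) :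
    ∃ x y, θ x = x ∧ θ y = y ∧ a * x ^ 2 + b * y ^ 2 + c = 0 := by
  by_cases h2 : (2 : F) = 0
  · obtain ⟨r, hr, hr2⟩ := exists_sqrt hθ h2 (a := c / a) (by rw [map_div₀, hc, ha])
    refine ⟨r, 0, hr, map_zero θ, ?_⟩
    rw [hr2, mul_div_cancel₀ _ ha0]
    linear_combination c * h2
  classical
  have : Fintype (Herm.fixField θ) := Fintype.ofFinite _
  have hchar : ringChar (Herm.fixField θ) ≠ 2 := fun h => h2 (by
    have : CharP (Herm.fixField θ) 2 := h ▸ ringChar.charP _
    exact congrArg Subtype.val (CharTwo.two_eq_zero (R := Herm.fixField θ)))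
  set a' : Herm.fixField θ := ⟨a, ha⟩
  set b' : Herm.fixField θ := ⟨b, hb⟩
  set c' : Herm.fixField θ := ⟨c, hc⟩
  have ha' : a' ≠ 0 := fun h => ha0 (congrArg Subtype.val h)
  have hb' : b' ≠ 0 := fun h => hb0 (congrArg Subtype.val h)
  obtain ⟨x, y, hxy⟩ := FiniteField.exists_root_sum_quadratic (f := Polynomial.C a' * Polynomial.X ^ 2)
    (g := Polynomial.C b' * Polynomial.X ^ 2 + Polynomial.C c') (Polynomial.degree_C_mul_X_pow 2 ha')
    (by
      rw [Polynomial.degree_add_eq_left_of_degree_lt, Polynomial.degree_C_mul_X_pow 2 hb']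
      · rfl
      · rw [Polynomial.degree_C_mul_X_pow 2 hb']
        exact Polynomial.degree_C_le.trans_lt (by exact_mod_cast (show 0 < 2 by norm_num)))
    (FiniteField.odd_card_of_char_ne_two hchar)
  refine ⟨x, y, x.2, y.2, ?_⟩
  simp at hxy
  have := congrArg Subtype.val hxy
  simp [a', b', c'] at this
  linear_combination this

theorem quot_norm {b : Fˣ} : θ (b : F) / b * θ (θ (b : F) / b) = 1 := by
  have h0 : θ (b : F) ≠ 0 := (map_ne_zero θ).2 b.ne_zero
  rw [map_div₀, hθ.invol]
  field_simp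

/-- An element with conjugate quotient not a sign, and norm different from one if there is room. -/
theorem exists_generic :
    ∃ b : Fˣ, (θ (b : F) / b) ^ 2 ≠ 1 ∧ θ (b : F) ≠ b ∧
      (3 ≤ Nat.card (Herm.fixField θ) → (b : F) * θ b ≠ 1) := by
  classical
  set q := Nat.card (Herm.fixField θ) with hq
  have h2 := two_le_fix hθ
  have : Fintype F := Fintype.ofFinite F
  suffices ∃ b : Fˣ, (θ (b : F) / b) ^ 2 ≠ 1 ∧ (3 ≤ q → (b : F) * θ b ≠ 1) by
    obtain ⟨b, h1, h3⟩ := this
    exact ⟨b, h1, fun e => h1 (by rw [e, div_self b.ne_zero, one_pow]), h3⟩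
  by_contra hc
  push Not at hc
  let g : Fˣ →* Fˣ := (Units.map θ.toMonoidHom) * (MonoidHom.id Fˣ)⁻¹
  have hg : ∀ x : Fˣ, (g x : F) = θ x / x := fun x => by
    show θ (x : F) * ((x⁻¹ : Fˣ) : F) = _
    rw [Units.val_inv_eq_inv_val, div_eq_mul_inv]
  let T : Subgroup Fˣ := (rootsOfUnity 2 F).comap g
  have hker : Nat.card g.ker ≤ q - 1 := by
    rw [hq, ← Nat.card_units]
    refine Nat.card_le_card_of_injective (fun x : g.ker =>
      Units.mk0 (⟨((x : Fˣ) : F), ?_⟩ : Herm.fixField θ) fun h => (x : Fˣ).ne_zero (congrArg Subtype.val h))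
      fun x y e => Subtype.ext (Units.ext (congrArg (fun z : (Herm.fixField θ)ˣ => ((z : Herm.fixField θ) : F)) e))
    have := congrArg Units.val (x.2 : g x = 1)
    rwa [hg, Units.val_one, div_eq_one_iff_eq (x : Fˣ).ne_zero] at this
  have hT : Nat.card T ≤ 2 * (q - 1) := by
    set f := g.comp T.subtype with hf
    rw [Subgroup.card_eq_card_quotient_mul_card_subgroup f.ker,
      Nat.card_congr (QuotientGroup.quotientKerEquivRange f).toEquiv]
    refine Nat.mul_le_mul ((Nat.card_le_card_of_injective (fun x : f.range => (⟨x.1, ?_⟩ : rootsOfUnity 2 F))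
      fun x y e => Subtype.ext (congrArg (fun z : rootsOfUnity 2 F => (z : Fˣ)) e)).trans (card_rootsOfUnity F 2))
      (le_trans (Nat.card_le_card_of_injective (fun x : f.ker => (⟨((x : T) : Fˣ), x.2⟩ : g.ker))
        fun x y e => Subtype.ext (Subtype.ext (congrArg (fun z : g.ker => (z : Fˣ)) e))) hker)
    obtain ⟨y, hy⟩ := x.2
    rw [← hy]
    exact y.2
  set N := (Herm.normHom θ).ker with hN
  have hcov : (Set.univ : Set Fˣ) ⊆ (T : Set Fˣ) ∪ (if 3 ≤ q then (N : Set Fˣ) \ {1} else ∅) := by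
    intro b _
    by_cases hb : (θ (b : F) / b) ^ 2 = 1
    · exact Or.inl ((mem_rootsOfUnity _ _).2 (Units.ext (by rw [Units.val_pow_eq_pow_val, hg, hb, Units.val_one])))
    · obtain ⟨h3, hn⟩ := hc b hb
      refine Or.inr ?_
      rw [if_pos h3]
      refine ⟨Units.ext (by rw [Herm.normHom_coe, hn, Units.val_one]), fun e => hb ?_⟩
      rw [Set.mem_singleton_iff] at e
      simp [e]
  have h := (Set.ncard_le_ncard hcov (Set.toFinite _)).trans (Set.ncard_union_le _ _)
  rw [Set.ncard_univ] at h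
  have hu := card_units_sq hθ
  rw [← hq, pow_two] at hu
  have hT' : (T : Set Fˣ).ncard ≤ 2 * (q - 1) := by rw [← Nat.card_coe_set_eq]; exact hT
  obtain ⟨r, hr⟩ : ∃ r, q = r + 2 := ⟨q - 2, by omega⟩
  split_ifs at h with h3
  · have hN' : ((N : Set Fˣ) \ {1}).ncard = q := by
      rw [Set.ncard_diff_singleton_of_mem N.one_mem, ← Nat.card_coe_set_eq]
      show Nat.card N - 1 = q
      rw [hN, Herm.card_ker_normHom hθ, hq, Nat.add_sub_cancel]
    rw [hN'] at h
    rw [hr] at h hT' hu h3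
    rw [show r + 2 - 1 = r + 1 by omega] at hT'
    nlinarith
  · rw [Set.ncard_empty] at h
    rw [hr] at hT' hu
    rw [show r + 2 - 1 = r + 1 by omega] at hT'
    nlinarith

end Cfsg.Agent.MinIndexForm.SU
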